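import Groth.Agent.H20Mu.TorusFn

/-!
# Cocharacters generating a torus
-/

set_option autoImplicit false
set_option linter.style.haveILetI false
set_option backward.isDefEq.respectTransparency false

universe u

open CategoryTheory CategoryTheory.Limits MonoidalCategory CartesianMonoidalCategory MonObj AlgebraicGeometry TensorProduct
open Groth.Agent.H27Witt H20Mu

noncomputable section

namespace H20Conj

variable {k : Type u} [Field k]

/-- The lattice `ℤ^r`, multiplicatively, in the universe of `k`. -/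
abbrev Lat (r : ℕ) : Type u := ULift.{u} (Multiplicative (Fin r → ℤ))

/-- A torus over an algebraically closed field is split. -/
theorem exists_split [IsAlgClosed k] (T : Over (Sk k)) [GrpObj T] (hT : Red.IsTorus T) :
    ∃ (A : Type u) (_ : CommRing A) (_ : HopfAlgebra k A) (r : ℕ)
      (e : (Spec (CommRingCat.of A)).asOver (Spec (CommRingCat.of k)) ≅ T),
      IsMonHom e.hom ∧ Nonempty (A ≃ₐc[k] MonoidAlgebra k (Lat.{u} r)) := by
  obtain ⟨S', f', -, hsurj, -, hsplit⟩ := hT
  obtain ⟨s', -⟩ := f'.surjective (IsLocalRing.closedPoint k)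
  obtain ⟨U, hsU, r, hr⟩ := hsplit s'
  let L : Type u := S'.residueField s'
  obtain ⟨φ, hφ⟩ := Spec.map_surjective (S'.fromSpecResidueField s' ≫ f')
  letI : Algebra k L := φ.hom.toAlgebra
  have hrange : Set.range (S'.fromSpecResidueField s') ⊆ Set.range U.ι := by
    rintro _ ⟨p, rfl⟩
    rw [Scheme.Opens.range_ι, Scheme.fromSpecResidueField_apply]
    exact hsU
  have hL : Red.IsSplitTorusWith (Fin r → ℤ) (Red.bc (Spec.map (CommRingCat.ofHom (algebraMap k L))) T) :=
    Groth.Agent.H21Diag.isSplit_comp (U.ι ≫ f') (IsOpenImmersion.lift U.ι _ hrange)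
      (by rw [IsOpenImmersion.lift_fac_assoc]; exact hφ) hr
  obtain ⟨A, _, _, e, he, ⟨P⟩⟩ := Groth.Agent.H02CA.Tori.exists_galSplit T ⟨L, inferInstance, inferInstance, hL⟩
  have hbij : Function.Bijective (algebraMap k P.L) := IsAlgClosed.algebraMap_bijective_of_isIntegral
  let j := (RingEquiv.ofBijective (algebraMap k P.L) hbij).symm.toRingHom
  letI : Algebra P.L k := j.toAlgebra
  haveI : IsScalarTower k P.L k := IsScalarTower.of_algebraMap_eq' (RingHom.ext fun c => by
    show c = (RingEquiv.ofBijective (algebraMap k P.L) hbij).symm (algebraMap k P.L c)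
    exact ((RingEquiv.ofBijective (algebraMap k P.L) hbij).symm_apply_apply c).symm)
  obtain ⟨E⟩ := Groth.Agent.H19Mult.isDiag_baseChange
    (P.chart.trans (MonoidAlgebra.domCongrBialgEquiv P.L P.L MulEquiv.ulift.symm) :
      (P.L ⊗[k] A) ≃ₐc[P.L] MonoidAlgebra P.L (Lat.{u} r)) k
  exact ⟨A, inferInstance, inferInstance, r, e, inferInstance,
    ⟨(Bialgebra.TensorProduct.lid k A).symm.trans E⟩⟩

/-- Maps from functions to a commutative monoid of units. -/
theorem pull_list_prod {D X : Over (Sk k)} [GrpObj D] {s : Fn D}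
    (hmul : ∀ {P : Over (Sk k)} (a b : P ⟶ D), Fn.pull (a * b) s = Fn.pull a s * Fn.pull b s)
    (hone : Fn.pull (1 : X ⟶ D) s = 1) : ∀ l : List (X ⟶ D), Fn.pull l.prod s = (l.map fun f => Fn.pull f s).prod
  | [] => by simpa using hone
  | f :: l => by rw [List.prod_cons, List.map_cons, List.prod_cons, hmul, pull_list_prod hmul hone l]

theorem gm_pt_ext {P : Over (Sk k)} {x y : P ⟶ Red.Gm (Sk k)}
    (h : (GmPts.unitOfPt x : Γ(P.left, ⊤)) = GmPts.unitOfPt y) : x = y := by
  rw [← GmPts.ptOfUnit_unitOfPt x, ← GmPts.ptOfUnit_unitOfPt y, Units.ext h]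

/-- A group-like unit is a character. -/
theorem isMonHom_ptOfUnit {D : Over (Sk k)} [GrpObj D] (u : (Γ(D.left, ⊤))ˣ)
    (h : ∀ {P : Over (Sk k)} (a b : P ⟶ D), Fn.pull (a * b) ((u : Γ(D.left, ⊤)) : Fn D) =
      Fn.pull a ((u : Γ(D.left, ⊤)) : Fn D) * Fn.pull b ((u : Γ(D.left, ⊤)) : Fn D)) :
    IsMonHom (GmPts.ptOfUnit u : D ⟶ Red.Gm (Sk k)) := by
  have key : ∀ {P : Over (Sk k)} (a b : P ⟶ D),
      (a * b) ≫ (GmPts.ptOfUnit u : D ⟶ Red.Gm (Sk k)) = (a ≫ GmPts.ptOfUnit u) * (b ≫ GmPts.ptOfUnit u) := by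
    intro P a b
    refine gm_pt_ext ((congrArg Units.val (GmPts.unitOfPt_comp (a * b) _)).trans ?_)
    refine Eq.trans ?_ (congrArg Units.val (GmPts.unitOfPt_mul (a ≫ GmPts.ptOfUnit u) (b ≫ GmPts.ptOfUnit u))).symm
    simp only [GmPts.unitOfPt_comp, GmPts.unitOfPt_ptOfUnit, Units.val_mul]
    exact h a b
  exact @Groth.Agent.H21Diag.isMonHom_of_mul (Over (Sk k)) _ _ D (Red.Gm (Sk k)) _ (Red.grpObj_bc _ _) _ key

set_option maxHeartbeats 1000000 in
/-- **Cocharacters generating a torus.** -/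
theorem exists_cochars [IsAlgClosed k] (T : Over (Sk k)) [GrpObj T] (hT : Red.IsTorus T) :
    ∃ (r : ℕ) (e : Fin r → (Red.Gm (Sk k) ⟶ T)) (co : Fin r → (T ⟶ Red.Gm (Sk k))),
      (∀ j, IsMonHom (e j)) ∧ (∀ j, IsMonHom (co j)) ∧ (List.ofFn fun j => co j ≫ e j).prod = 𝟙 T ∧
      ∀ {P : Over (Sk k)} (a b : P ⟶ T), a * b = b * a := by
  obtain ⟨A, _, _, r, e₁, he₁, ⟨E⟩⟩ := exists_split T hT
  haveI := he₁
  let D : Over (Sk k) := (Spec (CommRingCat.of A)).asOver (Spec (CommRingCat.of k))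
  haveI : IsAffine D.left := inferInstanceAs (IsAffine (Spec _))
  let e₀ : T ≅ D := e₁.symm
  haveI : IsMonHom e₀.inv := he₁
  haveI : IsMonHom e₀.hom := by
    constructor
    · rw [← cancel_mono e₀.inv, Category.assoc, e₀.hom_inv_id, Category.comp_id, IsMonHom.one_hom]
    · rw [← cancel_mono e₀.inv, Category.assoc, e₀.hom_inv_id, Category.comp_id, Category.assoc, IsMonHom.mul_hom,
        MonoidalCategory.tensorHom_comp_tensorHom_assoc, e₀.hom_inv_id]
      simp
  let gl : Lat.{u} r → Fn D := fun m => Fn.specAlg (k := k) A (E.symm (MonoidAlgebra.single m 1))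
  have hgl : ∀ (m : Lat.{u} r) {P : Over (Sk k)} (a b : P ⟶ D),
      Fn.pull (a * b) (gl m) = Fn.pull a (gl m) * Fn.pull b (gl m) := fun m _ a b =>
    groupLike_mul (IsGroupLikeElem.map (E.symm : MonoidAlgebra k (Lat.{u} r) →ₐc[k] A)
      (MonoidAlgebra.isGroupLikeElem_of (R := k) (A := k) m)) a b
  -- morphisms into `D` are determined by group-likes
  have hext : ∀ {P : Over (Sk k)} {a b : P ⟶ D}, (∀ m, Fn.pull a (gl m) = Fn.pull b (gl m)) → a = b := by
    intro P a b h
    refine Fn.hom_ext (AlgHom.ext fun z => ?_)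
    obtain ⟨z, rfl⟩ := ((E.symm : MonoidAlgebra k (Lat.{u} r) ≃ₐ[k] A).trans (Fn.specAlg (k := k) A)).surjective z
    induction z using MonoidAlgebra.induction_linear with
    | zero => simp
    | add x y hx hy => rw [map_add, map_add, map_add, hx, hy]
    | single m c =>
      rw [show MonoidAlgebra.single m c = c • MonoidAlgebra.single m (1 : k) by simp, map_smul, map_smul, map_smul]
      exact congrArg (c • ·) (h m)
  have hcomm : ∀ {P : Over (Sk k)} (a b : P ⟶ T), a * b = b * a := fun a b => by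
    rw [← cancel_mono e₀.hom]
    refine hext fun m => ?_
    rw [MonObj.mul_comp, MonObj.mul_comp, hgl, hgl, _root_.mul_comm]
  let mon : ∀ j : Fin r, Lat.{u} r →* Fn (Red.Gm (Sk k)) := fun j =>
    (Units.coeHom _).comp ((zpowersHom (Fn (Red.Gm (Sk k)))ˣ zFn).comp
      ((Pi.evalAddMonoidHom (fun _ : Fin r => ℤ) j).toMultiplicative.comp MulEquiv.ulift.toMonoidHom))
  have hmon : ∀ j m, mon j m = ((zFn ^ (m.down.toAdd j) : (Fn (Red.Gm (Sk k)))ˣ) : Fn (Red.Gm (Sk k))) :=
    fun j m => rfl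
  choose c hc using fun j => Fn.exists_hom (X := Red.Gm (Sk k)) (Y := D)
    (((MonoidAlgebra.lift k (Fn (Red.Gm (Sk k))) (Lat.{u} r) (mon j)).comp
      (E : A ≃ₐ[k] MonoidAlgebra k (Lat.{u} r)).toAlgHom).comp (Fn.specAlg (k := k) A).symm.toAlgHom)
  have hcgl : ∀ j m, Fn.pull (c j) (gl m) = mon j m := fun j m => by
    rw [hc]
    show MonoidAlgebra.lift k _ _ (mon j) (E ((Fn.specAlg A).symm ((Fn.specAlg A) (E.symm (MonoidAlgebra.single m 1))))) = _
    rw [AlgEquiv.symm_apply_apply, BialgEquiv.apply_symm_apply, MonoidAlgebra.lift_single, one_smul]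
  have hch : ∀ j, IsMonHom (c j) := fun j => by
    have key : ∀ {P : Over (Sk k)} (a b : P ⟶ Red.Gm (Sk k)), (a * b) ≫ c j = (a ≫ c j) * (b ≫ c j) := by
      intro P a b
      refine hext fun m => ?_
      have hu : ∀ g : P ⟶ Red.Gm (Sk k), Fn.pull g (mon j m) =
          ((GmPts.unitOfPt g ^ (m.down.toAdd j) : (Γ(P.left, ⊤))ˣ) : Γ(P.left, ⊤)) := fun g => by
        rw [hmon, ← pull_zFn g]
        exact congrArg Units.val (map_zpow (Units.map ((Fn.pull g : Fn (Red.Gm (Sk k)) →ₐ[k] Fn P) :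
          Fn (Red.Gm (Sk k)) →* Fn P)) zFn _)
      rw [hgl, ← Fn.pull_pull, ← Fn.pull_pull, ← Fn.pull_pull, hcgl, hu, hu, hu, GmPts.unitOfPt_mul, mul_zpow,
        Units.val_mul]
    constructor
    · have h1 := key (1 : 𝟙_ (Over (Sk k)) ⟶ Red.Gm (Sk k)) 1
      rw [_root_.one_mul] at h1
      have h2 := left_eq_mul.mp h1
      simpa [Hom.one_def] using h2
    · have h := key (fst (Red.Gm (Sk k)) (Red.Gm (Sk k))) (snd _ _)
      rw [Hom.mul_def, Hom.mul_def, lift_fst_snd, Category.id_comp] at h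
      rw [h]
      congr 1
  -- coordinates
  let δ : Fin r → Lat.{u} r := fun j => ULift.up (Multiplicative.ofAdd (Pi.single j (1 : ℤ)))
  have hδu : ∀ j, IsUnit (gl (δ j)) := fun j =>
    (((Group.isUnit (δ j)).map (MonoidAlgebra.of k (Lat.{u} r))).map (E.symm : MonoidAlgebra k (Lat.{u} r) ≃ₐ[k] A)).map
      (Fn.specAlg (k := k) A)
  let co : Fin r → (D ⟶ Red.Gm (Sk k)) := fun j => GmPts.ptOfUnit (hδu j).unit
  have hone : ∀ {P : Over (Sk k)} (m), Fn.pull (1 : P ⟶ D) (gl m) = 1 := fun {P} m => by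
    have h := hgl m (1 : P ⟶ D) 1
    rw [_root_.one_mul] at h
    have hu : IsUnit (Fn.pull (1 : P ⟶ D) (gl m)) :=
      ((((Group.isUnit m).map (MonoidAlgebra.of k (Lat.{u} r))).map (E.symm : MonoidAlgebra k (Lat.{u} r) ≃ₐ[k] A)).map
        (Fn.specAlg (k := k) A)).map _
    exact hu.mul_left_cancel (h.symm.trans (_root_.mul_one _).symm)
  have hid : (List.ofFn fun j => co j ≫ c j).prod = 𝟙 D := by
    refine hext fun m => ?_
    rw [pull_list_prod (hgl m) (hone m), List.map_ofFn, List.prod_ofFn, Fn.pull_id, AlgHom.id_apply]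
    let χ : Lat.{u} r →* Fn D :=
      ((Fn.specAlg (k := k) A).toAlgHom.toMonoidHom.comp
        (E.symm : MonoidAlgebra k (Lat.{u} r) ≃ₐ[k] A).toAlgHom.toMonoidHom).comp (MonoidAlgebra.of k (Lat.{u} r))
    have hm : m = ∏ j, δ j ^ (m.down.toAdd j) := by
      apply MulEquiv.ulift.injective
      rw [map_prod]
      refine (Multiplicative.toAdd.injective ?_)
      rw [toAdd_prod]
      refine funext fun i => ?_
      simp [δ, MulEquiv.ulift, Finset.sum_apply, Pi.single_apply]
    refine (Finset.prod_congr rfl (g := fun j => χ (δ j ^ (m.down.toAdd j))) fun j _ => ?_).trans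
      ((map_prod χ (fun j => δ j ^ (m.down.toAdd j)) Finset.univ).symm.trans (congrArg χ hm).symm)
    · show Fn.pull (co j ≫ c j) (gl m) = χ (δ j ^ (m.down.toAdd j))
      rw [← Fn.pull_pull, hcgl, hmon]
      refine (congrArg Units.val (map_zpow (Units.map ((Fn.pull (co j) : Fn (Red.Gm (Sk k)) →ₐ[k] Fn D) :
          Fn (Red.Gm (Sk k)) →* Fn D)) zFn _)).trans ?_
      rw [pull_zFn, GmPts.unitOfPt_ptOfUnit]
      refine Eq.trans ?_ (χ.coe_toHomUnits _)
      rw [map_zpow]
      exact congrArg Units.val (congrArg (· ^ _) (Units.ext rfl))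
  have hco : ∀ j, IsMonHom (co j) := fun j => isMonHom_ptOfUnit _ fun a b => hgl (δ j) a b
  refine ⟨r, fun j => c j ≫ e₀.inv, fun j => e₀.hom ≫ co j, fun j => haveI := hch j; inferInstance,
    fun j => haveI := hco j; inferInstance, ?_, hcomm⟩
  have hl : ∀ l : List (D ⟶ D), (l.map fun f => e₀.hom ≫ f ≫ e₀.inv).prod = e₀.hom ≫ l.prod ≫ e₀.inv := by
    intro l
    induction l with
    | nil => rw [List.map_nil, List.prod_nil, List.prod_nil, MonObj.one_comp, MonObj.comp_one]
    | cons f l ih => rw [List.map_cons, List.prod_cons, List.prod_cons, ih, MonObj.mul_comp, MonObj.comp_mul]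
  have := hl (List.ofFn fun j => co j ≫ c j)
  rw [hid, Category.id_comp, e₀.hom_inv_id, List.map_ofFn] at this
  simpa [Function.comp_def, Category.assoc] using this

end H20Conj
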