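import Groth.Agent.H20Conj.Unipotent

/-!
# Conjugating a torus into the centraliser of another
-/

set_option autoImplicit false

universe u

noncomputable section

open Matrix

namespace H20Conj

variable {k : Type u} [Field k] [IsAlgClosed k] {N : ℕ}

/-- The stabiliser of a submodule. -/
def stabSub (W : Submodule k (Vec k N)) : Subgroup (GLk k N) where
  carrier := {g | Stab W g}
  one_mem' x hx := by simpa using hx
  mul_mem' {a b} ha hb x hx := by rw [Units.val_mul, ← Matrix.mulVec_mulVec]; exact ha _ (hb x hx)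
  inv_mem' {a} ha x hx := by
    let L : W →ₗ[k] W := ((a : Mat k N).mulVecLin).restrict ha
    have hinj : Function.Injective L := fun p q h => Subtype.ext (by
      have h1 := congrArg (fun z : W => ((a⁻¹ : GLk k N) : Mat k N) *ᵥ (z : Vec k N)) h
      simpa [L, Matrix.mulVec_mulVec] using h1)
    obtain ⟨y, hy⟩ := (LinearMap.injective_iff_surjective.mp hinj) ⟨x, hx⟩
    have h1 : (a : Mat k N) *ᵥ (y : Vec k N) = x := congrArg Subtype.val hy
    rw [← h1, Matrix.mulVec_mulVec, Units.inv_mul, Matrix.one_mulVec]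
    exact y.2

omit [IsAlgClosed k] in
theorem mem_stabSub {W : Submodule k (Vec k N)} {g : GLk k N} : g ∈ stabSub W ↔ Stab W g := Iff.rfl

theorem isZClosed_stabSub (W : Submodule k (Vec k N)) : IsZClosed (stabSub W : Set (GLk k N)) := by
  let ι := Σ' (x : W) (φ : Vec k N →ₗ[k] k), ∀ w ∈ W, φ w = 0
  let ψ : ι → Mat k N →ₗ[k] k := fun s =>
    { toFun := fun M => s.2.1 (M *ᵥ (s.1 : Vec k N))
      map_add' := fun A B => by rw [Matrix.add_mulVec, map_add]
      map_smul' := fun c A => by rw [Matrix.smul_mulVec, map_smul]; rfl }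
  have hset : (stabSub W : Set (GLk k N)) = {g : GLk k N | ∀ s : ι, ψ s (g : Mat k N) = 0} := Set.ext fun g => by
    exact ⟨fun hg s => s.2.2 _ (hg _ s.1.2), fun hg x hx => mem_of_forall_dual _ fun φ hφ => hg ⟨⟨x, hx⟩, φ, hφ⟩⟩
  rw [hset]
  exact isZClosed_affine _ _

/-- A Laurent polynomial with infinitely many roots is zero. -/
theorem laurent_zero_of_infinite {s : Finset ℤ} {c : ℤ → k} {S : Set kˣ} (hS : S.Infinite)
    (h : ∀ u ∈ S, ∑ i ∈ s, c i * ((u ^ i : kˣ) : k) = 0) : ∀ i ∈ s, c i = 0 := by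
  intro i hi
  obtain ⟨m, hm⟩ : ∃ m : ℤ, ∀ j ∈ s, m ≤ j := s.bddBelow.imp fun m hm j hj => hm hj
  let q : Polynomial k := ∑ j ∈ s, Polynomial.C (c j) * Polynomial.X ^ (j - m).toNat
  have hq : q = 0 := by
    refine Polynomial.eq_zero_of_infinite_isRoot _ ((hS.image Units.val_injective.injOn).mono ?_)
    rintro _ ⟨u, hu, rfl⟩
    show q.eval (u : k) = 0
    rw [show q.eval (u : k) = ((u ^ (-m) : kˣ) : k) * ∑ j ∈ s, c j * ((u ^ j : kˣ) : k) by
      simp only [q, Polynomial.eval_finsetSum, Polynomial.eval_mul, Polynomial.eval_C, Polynomial.eval_pow,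
        Polynomial.eval_X, Finset.mul_sum]
      refine Finset.sum_congr rfl fun j hj => ?_
      rw [← Units.val_pow_eq_pow_val, ← zpow_natCast, Int.toNat_of_nonneg (by have := hm j hj; omega),
        mul_left_comm, ← Units.val_mul, ← _root_.zpow_add, neg_add_eq_sub], h u hu, mul_zero]
  have h1 := congrArg (fun p => Polynomial.coeff p (i - m).toNat) hq
  simp only [q, Polynomial.finsetSum_coeff, Polynomial.coeff_C_mul_X_pow, Polynomial.coeff_zero] at h1
  rwa [Finset.sum_eq_single_of_mem i hi fun j hj hne => if_neg (by have := hm j hj; have := hm i hi; omega),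
    if_pos rfl] at h1

/-- Roots of unity of order invertible in `k`. -/
def goodRoots (k : Type u) [Field k] : Set kˣ := {z | ∃ n : ℕ, (n : k) ≠ 0 ∧ z ^ n = 1}

theorem infinite_goodRoots : (goodRoots k).Infinite := by
  obtain ⟨p, hp⟩ := CharP.exists k
  have hP : ({n : ℕ | n.Prime} \ {p}).Infinite := Nat.infinite_setOf_prime.sdiff (Set.finite_singleton p)
  have hgood : ∀ l ∈ ({n : ℕ | n.Prime} \ {p}), (l : k) ≠ 0 := fun l hl h0 => by
    rw [CharP.cast_eq_zero_iff k p] at h0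
    rcases (Nat.dvd_prime hl.1).mp h0 with h1 | h1
    · subst h1; exact CharP.false_of_nontrivial_of_char_one (R := k)
    · exact hl.2 h1.symm
  have hroot : ∀ l : ({n : ℕ | n.Prime} \ {p} : Set ℕ), ∃ z : kˣ, orderOf z = (l : ℕ) := fun l => by
    haveI : NeZero ((l : ℕ) : k) := ⟨hgood l l.2⟩
    haveI : NeZero (l : ℕ) := ⟨l.2.1.ne_zero⟩
    obtain ⟨r, hr⟩ := HasEnoughRootsOfUnity.exists_primitiveRoot k (l : ℕ)
    exact ⟨(hr.isUnit l.2.1.ne_zero).unit, by
      rw [← orderOf_units, IsUnit.unit_spec]; exact hr.eq_orderOf.symm⟩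
  choose z hz using hroot
  haveI := hP.to_subtype
  refine (Set.infinite_range_of_injective (f := z) fun a b h => Subtype.ext ?_).mono ?_
  · rw [← hz a, h, hz b]
  · rintro _ ⟨l, rfl⟩
    exact ⟨l, hgood l l.2, by rw [← hz l]; exact pow_orderOf_eq_one _⟩

/-- A conjugate commuting on torsion, at one level. -/
theorem exists_conj_torsion {H : Subgroup (GLk k N)} (hH : IsZClosed (H : Set (GLk k N))) (F : Flag H)
    {r : ℕ} (e : Fin r → kˣ →* GLk k N) (f : kˣ →* GLk k N) (heH : ∀ j t, e j t ∈ H) (hfH : ∀ t, f t ∈ H)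
    (hec : ∀ i j s t, Commute (e i s : Mat k N) (e j t)) {n : ℕ} (hn : (n : k) ≠ 0) :
    ∃ u ∈ F.U 1, ∀ ζ : kˣ, ζ ^ n = 1 → ∀ j (η : kˣ), η ^ n = 1 →
      Commute ((u * f ζ * u⁻¹ : GLk k N) : Mat k N) (e j η) := by
  classical
  have hn0 : n ≠ 0 := fun h => hn (by simp [h])
  haveI : NeZero n := ⟨hn0⟩
  haveI : NeZero (n : k) := ⟨hn⟩
  let μ := rootsOfUnity n k
  let ρ : (Fin r → μ) →* GLk k N := MonoidHom.noncommPiCoprod (fun j => (e j).comp μ.subtype)
    (fun i j _ s t => Units.ext (hec i j _ _).eq)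
  have hρ : ∀ a, ρ a ∈ H := fun a => by
    rw [MonoidHom.noncommPiCoprod_apply]
    exact Subgroup.noncommProd_mem H _ fun j _ => heH j _
  haveI : Fintype μ := Fintype.ofFinite _
  have hρe : ∀ j (η : μ), ρ (Pi.mulSingle j η) = e j (η : kˣ) := fun j η =>
    MonoidHom.noncommPiCoprod_mulSingle _ _ _
  have hcard : (Fintype.card (Fin r → μ) : k) ≠ 0 := by
    rw [Fintype.card_fun, ← Nat.card_eq_fintype_card (α := μ), HasEnoughRootsOfUnity.natCard_rootsOfUnity k n]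
    simpa using pow_ne_zero _ hn
  obtain ⟨ζ₀, hζ₀⟩ := HasEnoughRootsOfUnity.exists_primitiveRoot k n
  let z₀ : kˣ := (hζ₀.isUnit hn0).unit
  have hz₀ : IsPrimitiveRoot z₀ n := hζ₀.isUnit_unit hn0
  let z := f z₀
  have hzn : z ^ n = 1 := by rw [← map_pow, hz₀.pow_eq_one, map_one]
  have hzH : z ∈ H := hfH _
  -- move `z` into the centraliser of the torsion
  obtain ⟨u, hu, huc⟩ := F.exists_coboundary hH hcard ρ hρ F.len 1 le_rfl (by omega)
    (fun a => z * ρ a * z⁻¹ * (ρ a)⁻¹) (fun a => F.commutator_mem hzH (hρ a))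
    (fun a b => by simp only [map_mul]; group)
  have hw : ∀ a, Commute (u * z) (ρ a) := fun a => by
    have h1 := huc a
    show u * z * ρ a = ρ a * (u * z)
    calc u * z * ρ a = u * (z * ρ a * z⁻¹ * (ρ a)⁻¹) * ρ a * z := by group
      _ = _ := by rw [h1]; group
  have hpow : ∀ m : ℕ, (u * z) ^ m * (z ^ m)⁻¹ ∈ F.U 1 := fun m => by
    induction m with
    | zero => simp
    | succ m ih =>
      have : (u * z) ^ (m + 1) * (z ^ (m + 1))⁻¹ = ((u * z) ^ m * (z ^ m)⁻¹) * (z ^ m * u * (z ^ m)⁻¹) := by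
        rw [pow_succ, pow_succ, _root_.mul_inv_rev]; group
      rw [this]
      exact (F.U 1).mul_mem ih (F.U_conj (H.pow_mem hzH m) hu)
  have hwn : (u * z) ^ n ∈ F.U 1 := by simpa [hzn] using hpow n
  obtain ⟨s, hs, hsn, hsc⟩ := F.exists_root hH le_rfl hwn hn
  have hsw : Commute s (u * z) := Units.ext (hsc _ ((Commute.refl (u * z)).pow_left n |>.map (Units.coeHom _)))
  have hsρ : ∀ a, Commute s (ρ a) := fun a => Units.ext (hsc _ (((hw a).pow_left n).map (Units.coeHom _)))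
  let z' := u * z * s⁻¹
  have hz'n : z' ^ n = 1 := by rw [(hsw.symm.inv_right).mul_pow, inv_pow, hsn, mul_inv_cancel]
  have hz'ρ : ∀ a, Commute z' (ρ a) := fun a => (hw a).mul_left (hsρ a).inv_left
  have hz'z : z' * z⁻¹ ∈ F.U 1 := by
    rw [show z' * z⁻¹ = u * (z * s⁻¹ * z⁻¹) by simp only [z']; group]
    exact (F.U 1).mul_mem hu (F.U_conj hzH ((F.U 1).inv_mem hs))
  have hz'H : z' ∈ H := H.mul_mem (H.mul_mem hu.1 hzH) (H.inv_mem hs.1)
  -- conjugate the two lifts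
  have hlift : ∀ x : GLk k N, x ^ n = 1 → ∃ χ : Multiplicative (ZMod n) →* GLk k N,
      χ (Multiplicative.ofAdd 1) = x ∧ ∀ i, ∃ m : ℕ, χ i = x ^ m := fun x hx => by
    let ψ : ZMod n →+ Additive (GLk k N) := ZMod.lift n ⟨zmultiplesHom _ (Additive.ofMul x), by
      show ((n : ℤ) • Additive.ofMul x) = 0
      rw [natCast_zsmul, ← ofMul_pow, hx, ofMul_one]⟩
    have hψ : ∀ m : ℕ, ψ (m : ZMod n) = Additive.ofMul (x ^ m) := fun m => by
      rw [show ((m : ℕ) : ZMod n) = ((m : ℤ) : ZMod n) by simp]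
      show ZMod.lift n _ _ = _
      rw [ZMod.lift_coe]
      exact (natCast_zsmul _ _).trans (ofMul_pow _ _).symm
    refine ⟨ψ.toMultiplicativeLeft, ?_, fun i => ⟨i.toAdd.val, ?_⟩⟩
    · show Additive.toMul (ψ 1) = x
      rw [← Nat.cast_one, hψ]; simp
    · show Additive.toMul (ψ i.toAdd) = _
      conv_lhs => rw [← ZMod.natCast_zmod_val i.toAdd, hψ]
      rfl
  obtain ⟨ρ₁, hρ₁, hρ₁'⟩ := hlift z hzn
  obtain ⟨ρ₂, hρ₂, hρ₂'⟩ := hlift z' hz'n
  have hdiff : ∀ i, ρ₂ i * (ρ₁ i)⁻¹ ∈ F.U 1 := fun i => by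
    have key : ∀ m : ℕ, z' ^ m * (z ^ m)⁻¹ ∈ F.U 1 := fun m => by
      induction m with
      | zero => simp
      | succ m ih =>
        have : z' ^ (m + 1) * (z ^ (m + 1))⁻¹ = (z' ^ m * (z ^ m)⁻¹) * (z ^ m * (z' * z⁻¹) * (z ^ m)⁻¹) := by
          rw [pow_succ, pow_succ, _root_.mul_inv_rev]; group
        rw [this]
        exact (F.U 1).mul_mem ih (F.U_conj (H.pow_mem hzH m) hz'z)
    obtain ⟨m, hm⟩ : ∃ m : ℕ, i = Multiplicative.ofAdd (1 : ZMod n) ^ m :=
      ⟨i.toAdd.val, by rw [← ofAdd_nsmul, nsmul_one, ZMod.natCast_zmod_val]; rfl⟩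
    rw [hm, map_pow, map_pow, hρ₁, hρ₂]
    exact key m
  obtain ⟨v, hv, hvc⟩ := F.exists_coboundary hH (A := Multiplicative (ZMod n)) (by simpa using hn) ρ₁
    (fun i => by obtain ⟨m, hm⟩ := hρ₁' i; rw [hm]; exact H.pow_mem hzH m) F.len 1 le_rfl (by omega)
    (fun i => ρ₂ i * (ρ₁ i)⁻¹) hdiff (fun i j => by simp only [map_mul]; group)
  have hz'v : z' = v⁻¹ * z * v := by
    have h1 := hvc (Multiplicative.ofAdd 1)
    rw [hρ₁, hρ₂] at h1
    exact mul_right_cancel h1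
  refine ⟨v⁻¹, (F.U 1).inv_mem hv, fun ζ hζ j η hη => ?_⟩
  obtain ⟨m, -, hm⟩ := hζ₀.eq_pow_of_pow_eq_one (ξ := (ζ : k))
    (by rw [← Units.val_pow_eq_pow_val, hζ, Units.val_one])
  obtain rfl : z₀ ^ m = ζ := Units.ext (by simpa [z₀] using hm)
  rw [inv_inv, map_pow, show v⁻¹ * f z₀ ^ m * v = z' ^ m by
    rw [hz'v]; simpa using (conj_pow (i := m) (a := v⁻¹) (b := z)).symm]
  have h2 := (hz'ρ (Pi.mulSingle j ⟨η, hη⟩)).pow_left m
  rw [hρe] at h2
  exact h2.map (Units.coeHom _)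

/-- **Conjugation in a subgroup with a flag.** -/
theorem exists_conj_flag {H : Subgroup (GLk k N)} (hH : IsZClosed (H : Set (GLk k N))) (F : Flag H)
    {r : ℕ} (e : Fin r → kˣ →* GLk k N) (f : kˣ →* GLk k N) (he : ∀ j, IsLaurent (e j)) (hf : IsLaurent f)
    (heH : ∀ j t, e j t ∈ H) (hfH : ∀ t, f t ∈ H) (hec : ∀ i j s t, Commute (e i s : Mat k N) (e j t)) :
    ∃ u ∈ H, ∀ t j s, Commute ((u * f t * u⁻¹ : GLk k N) : Mat k N) (e j s) := by
  let C : ℕ → Set (GLk k N) := fun n =>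
    {u | u ∈ F.U 1 ∧ ∀ ζ : kˣ, ζ ^ n = 1 → ∀ j (η : kˣ), η ^ n = 1 →
      Commute ((u * f ζ * u⁻¹ : GLk k N) : Mat k N) (e j η)}
  have hCclosed : ∀ n, IsZClosed (C n) := fun n => by
    let X := Matrix.mvPolynomialX (Fin N) (Fin N) k
    let ι := { p : kˣ × Fin r × kˣ // p.1 ^ n = 1 ∧ p.2.2 ^ n = 1 }
    let P : ι → Matrix (Fin N) (Fin N) (EPoly k N) := fun p =>
      X * (f p.1.1 : Mat k N).map MvPolynomial.C * X.adjugate * (e p.1.2.1 p.1.2.2 : Mat k N).map MvPolynomial.C -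
        (e p.1.2.1 p.1.2.2 : Mat k N).map MvPolynomial.C * (X * (f p.1.1 : Mat k N).map MvPolynomial.C * X.adjugate)
    have hP : ∀ (g : GLk k N) (p : ι), (P p).map (evM g) = 0 ↔
        Commute ((g * f p.1.1 * g⁻¹ : GLk k N) : Mat k N) (e p.1.2.1 p.1.2.2) := fun g p => by
      have hadj : X.adjugate.map (evM g) = (g : Mat k N).adjugate := by
        conv_rhs => rw [← map_evM_X g]
        exact AlgHom.map_adjugate (evM g) X
      have hd : (g : Mat k N).det ≠ 0 := ((Matrix.isUnit_iff_isUnit_det _).mp g.isUnit).ne_zero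
      have hinv : (g : Mat k N).adjugate = (g : Mat k N).det • ((g⁻¹ : GLk k N) : Mat k N) := by
        calc (g : Mat k N).adjugate = (g : Mat k N).adjugate * ((g : Mat k N) * ((g⁻¹ : GLk k N) : Mat k N)) := by
              rw [Units.mul_inv, mul_one]
          _ = _ := by rw [← mul_assoc, Matrix.adjugate_mul, Matrix.smul_mul, one_mul]
      simp only [P, Matrix.map_sub _ (fun a b => map_sub (evM g) a b), Matrix.map_mul, map_evM_C, hadj, hinv, X,
        map_evM_X, sub_eq_zero, Matrix.mul_smul, Matrix.smul_mul, Commute, SemiconjBy, Units.val_mul]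
      exact ⟨fun h => smul_right_injective _ hd h, fun h => congrArg _ h⟩
    have hset : C n = (F.U 1 : Set (GLk k N)) ∩ {g | ∀ p : ι, (P p).map (evM g) = 0} := Set.ext fun g =>
      ⟨fun hg => ⟨hg.1, fun p => (hP g p).mpr (hg.2 _ p.2.1 _ _ p.2.2)⟩,
        fun hg => ⟨hg.1, fun ζ hζ j η hη => (hP g ⟨(ζ, j, η), hζ, hη⟩).mp (hg.2 _)⟩⟩
    rw [hset]
    exact isZClosed_inter (F.isZClosed_U hH 1) (isZClosed_of_matrix P)
  obtain ⟨I, ⟨n, hn, rfl⟩, hmax⟩ := set_has_maximal_iff_noetherian.mpr inferInstance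
    {I : Submodule (EPoly k N) (EPoly k N) | ∃ n : ℕ, (n : k) ≠ 0 ∧ vIdeal (C n) = I}
    ⟨_, 1, by simp, rfl⟩
  obtain ⟨u, hu, huc⟩ := exists_conj_torsion hH F e f heH hfH hec hn
  have hsub : ∀ m : ℕ, (m : k) ≠ 0 → u ∈ C m := fun m hm => by
    have hnm : ((n * m : ℕ) : k) ≠ 0 := by push_cast; exact mul_ne_zero hn hm
    have hle : C (n * m) ⊆ C n := fun g hg => ⟨hg.1, fun ζ hζ j η hη =>
      hg.2 ζ (by rw [pow_mul, hζ, one_pow]) j η (by rw [pow_mul, hη, one_pow])⟩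
    have heq : vIdeal (C n) = vIdeal (C (n * m)) :=
      (eq_or_lt_of_le (vIdeal_mono hle)).resolve_right (hmax _ ⟨_, hnm, rfl⟩)
    have hu' : u ∈ C (n * m) := subset_of_vIdeal_le (hCclosed _) heq.ge ⟨hu, huc⟩
    exact ⟨hu, fun ζ hζ j η hη => hu'.2 ζ (by rw [pow_mul', hζ, one_pow]) j η (by rw [pow_mul', hη, one_pow])⟩
  have htor : ∀ ζ ∈ goodRoots k, ∀ j, ∀ η ∈ goodRoots k, Commute ((u * f ζ * u⁻¹ : GLk k N) : Mat k N) (e j η) := by
    rintro ζ ⟨a, ha, hζ⟩ j η ⟨b, hb, hη⟩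
    exact (hsub (a * b) (by push_cast; exact mul_ne_zero ha hb)).2 ζ (by rw [pow_mul, hζ, one_pow]) j η
      (by rw [pow_mul', hη, one_pow])
  refine ⟨u, hu.1, fun t j s => ?_⟩
  -- density
  have ext1 : ∀ (x : Mat k N) {g : kˣ →* GLk k N}, IsLaurent g → (∀ ζ ∈ goodRoots k, Commute x (g ζ)) →
      ∀ t, Commute x (g t) := fun x g hg hx t => by
    obtain ⟨S, M, hM⟩ := hg
    have hz : ∀ i ∈ S, x * M i - M i * x = 0 := fun i hi => by
      ext a b
      refine laurent_zero_of_infinite (c := fun i => (x * M i - M i * x) a b) infinite_goodRoots (fun ζ hζ => ?_) i hi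
      have h0 : ∑ i ∈ S, ((ζ ^ i : kˣ) : k) • (x * M i - M i * x) = 0 := by
        have h2 := sub_eq_zero.mpr (hx ζ hζ).eq
        rw [hM ζ, Finset.mul_sum, Finset.sum_mul] at h2
        simpa [smul_sub, Finset.sum_sub_distrib, Matrix.mul_smul, Matrix.smul_mul] using h2
      have h1 := congrFun (congrFun h0 a) b
      simpa [Matrix.sum_apply, mul_comm] using h1
    show x * _ = _ * x
    rw [hM t, Finset.mul_sum, Finset.sum_mul]
    refine Finset.sum_congr rfl fun i hi => ?_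
    rw [Matrix.mul_smul, Matrix.smul_mul, sub_eq_zero.mp (hz i hi)]
  have h1 : ∀ ζ ∈ goodRoots k, Commute ((u * f ζ * u⁻¹ : GLk k N) : Mat k N) (e j s) := fun ζ hζ =>
    ext1 _ (he j) (fun η hη => htor ζ hζ j η hη) s
  exact (ext1 _ (hf.conj u) (fun ζ hζ => (h1 ζ hζ).symm) t).symm

/-- **Conjugation into the centraliser**, one one-parameter subgroup. -/
theorem exists_conj_one (H : Subgroup (GLk k N)) (hH : IsZClosed (H : Set (GLk k N))) {r : ℕ}
    (e : Fin r → kˣ →* GLk k N) (f : kˣ →* GLk k N) (he : ∀ j, IsLaurent (e j)) (hf : IsLaurent f)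
    (heH : ∀ j t, e j t ∈ H) (hfH : ∀ t, f t ∈ H) (hec : ∀ i j s t, Commute (e i s : Mat k N) (e j t)) :
    ∃ u ∈ H, ∀ t j s, Commute ((u * f t * u⁻¹ : GLk k N) : Mat k N) (e j s) := by
  suffices key : ∀ I : Ideal (EPoly k N), ∀ H : Subgroup (GLk k N), vIdeal (H : Set (GLk k N)) = I →
      IsZClosed (H : Set (GLk k N)) → ∀ f : kˣ →* GLk k N, IsLaurent f → (∀ j t, e j t ∈ H) → (∀ t, f t ∈ H) →
      ∃ u ∈ H, ∀ t j s, Commute ((u * f t * u⁻¹ : GLk k N) : Mat k N) (e j s) from key _ H rfl hH f hf heH hfH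
  intro I
  induction I using IsNoetherian.induction with
  | hgt I ih =>
  intro H hHI hH f hf heH hfH
  -- grow a flag as long as possible
  suffices hflag : ∀ (W : Submodule k (Vec k N)) (Wc : ℕ → Submodule k (Vec k N)) (n : ℕ),
      Monotone Wc → Wc 0 = ⊥ → (∀ i, n ≤ i → Wc i = W) →
      (∀ h ∈ H, ∀ i, ∃ a : k, ∀ x ∈ Wc (i + 1), (h : Mat k N) *ᵥ x - a • x ∈ Wc i) →
      (∀ h ∈ H, Stab W h) → ∃ u ∈ H, ∀ t j s, Commute ((u * f t * u⁻¹ : GLk k N) : Mat k N) (e j s) from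
    hflag ⊥ (fun _ => ⊥) 0 monotone_const rfl (fun _ _ => rfl)
      (fun h _ _ => ⟨1, fun x hx => by rw [Submodule.mem_bot] at hx ⊢; simp [hx]⟩)
      (fun h _ x hx => by rw [Submodule.mem_bot] at hx ⊢; simp [hx])
  intro W
  induction W using IsNoetherian.induction with
  | hgt W ihW =>
  intro Wc n hmono h0 htop hsc hW
  by_cases hWt : W = ⊤
  · exact exists_conj_flag hH ⟨Wc, n, hmono, h0, (htop n le_rfl).trans hWt, hsc⟩ e f he hf heH hfH hec
  obtain ⟨z, hz, h₀, hh₀, hez, hfz⟩ := exists_step hH hW hWt e (fun _ : Fin 1 => f) he (fun _ => hf) heH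
    (fun _ => hfH) hec (fun _ _ a b => Units.ext_iff.mp (show f a * f b = f b * f a by rw [← map_mul, ← map_mul, mul_comm]))
  let W' := Submodule.span k {z} ⊔ W
  have hWW' : W < W' := lt_of_le_of_ne le_sup_right fun hh => hz (hh.ge (Submodule.mem_sup_left
    (Submodule.mem_span_singleton_self z)))
  by_cases hall : ∀ h ∈ H, Stab W' h
  · refine ihW W' hWW' (fun i => if i ≤ n then Wc i else W') (n + 1) ?_ (by simp [h0])
      (fun i hi => by rw [if_neg (by omega)]) (fun h hh i => ?_) hall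
    · intro i j hij
      dsimp only
      split_ifs with h1 h2
      · exact hmono hij
      · exact ((hmono h1).trans (htop n le_rfl).le).trans hWW'.le
      · omega
      · exact le_rfl
    · by_cases hi : i + 1 ≤ n
      · rw [if_pos hi, if_pos (by omega)]
        exact hsc h hh i
      rw [if_neg hi]
      by_cases hin : i ≤ n
      · rw [if_pos hin, show i = n by omega, htop n le_rfl]
        obtain ⟨x₁, hx₁, x₂, hx₂, hx⟩ := Submodule.mem_sup.mp
          (hall h hh z (Submodule.mem_sup_left (Submodule.mem_span_singleton_self z)))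
        obtain ⟨a, rfl⟩ := Submodule.mem_span_singleton.mp hx₁
        refine ⟨a, fun x hx' => ?_⟩
        obtain ⟨y₁, hy₁, y₂, hy₂, rfl⟩ := Submodule.mem_sup.mp hx'
        obtain ⟨b, rfl⟩ := Submodule.mem_span_singleton.mp hy₁
        rw [Matrix.mulVec_add, Matrix.mulVec_smul, ← hx, smul_add, smul_add,
          show b • a • z = a • b • z from smul_comm b a z]
        rw [show a • b • z + b • x₂ + (h : Mat k N) *ᵥ y₂ - (a • b • z + a • y₂) =
          b • x₂ + ((h : Mat k N) *ᵥ y₂ - a • y₂) by abel]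
        exact add_mem (W.smul_mem _ hx₂) (sub_mem (hW h hh _ hy₂) (W.smul_mem _ hy₂))
      · rw [if_neg hin]
        exact ⟨0, fun x hx => by simpa using hall h hh x hx⟩
  · push Not at hall
    obtain ⟨g, hg, hgW⟩ := hall
    let H' : Subgroup (GLk k N) := H ⊓ stabSub W'
    have hlt : vIdeal (H : Set (GLk k N)) < vIdeal (H' : Set (GLk k N)) :=
      vIdeal_lt (isZClosed_inter hH (isZClosed_stabSub W'))
        ⟨Set.inter_subset_left, fun hsub => hgW (hsub hg).2⟩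
    obtain ⟨u, hu, huc⟩ := ih _ (hHI ▸ hlt) H' rfl (isZClosed_inter hH (isZClosed_stabSub W'))
      ((MulAut.conj h₀).toMonoidHom.comp f) (hf.conj h₀) (fun j t => ⟨heH j t, hez j t⟩)
      (fun t => ⟨H.mul_mem (H.mul_mem hh₀ (hfH t)) (H.inv_mem hh₀), hfz 0 t⟩)
    refine ⟨u * h₀, H.mul_mem hu.1 hh₀, fun t j s => ?_⟩
    have := huc t j s
    rwa [show u * h₀ * f t * (u * h₀)⁻¹ = u * ((MulAut.conj h₀).toMonoidHom.comp f) t * u⁻¹ by
      simp <;> group]

/-- **Conjugation of a torus into the centraliser of another.** -/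
theorem exists_conj {r' : ℕ} : ∀ (H : Subgroup (GLk k N)), IsZClosed (H : Set (GLk k N)) → ∀ {r : ℕ}
    (e : Fin r → kˣ →* GLk k N) (f : Fin r' → kˣ →* GLk k N), (∀ j, IsLaurent (e j)) → (∀ j, IsLaurent (f j)) →
    (∀ j t, e j t ∈ H) → (∀ j t, f j t ∈ H) → (∀ i j s t, Commute (e i s : Mat k N) (e j t)) →
    (∀ i j s t, Commute (f i s : Mat k N) (f j t)) →
    ∃ u ∈ H, ∀ i t j s, Commute ((u * f i t * u⁻¹ : GLk k N) : Mat k N) (e j s) := by
  induction r' with
  | zero => exact fun H _ _ _ _ _ _ _ _ _ _ => ⟨1, H.one_mem, fun i => i.elim0⟩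
  | succ n ih =>
    intro H hH r e f he hf heH hfH hec hfc
    obtain ⟨u₁, hu₁, hc₁⟩ := exists_conj_one H hH e (f 0) he (hf 0) heH (hfH 0) hec
    let H' : Subgroup (GLk k N) := H ⊓ centSub fun t : kˣ => ((u₁ * f 0 t * u₁⁻¹ : GLk k N) : Mat k N)
    have hH' : IsZClosed (H' : Set (GLk k N)) := isZClosed_inter hH (isZClosed_commute _)
    obtain ⟨u₂, hu₂, hc₂⟩ := ih H' hH' e (fun i => (MulAut.conj u₁).toMonoidHom.comp (f i.succ)) he
      (fun i => (hf _).conj u₁) (fun j s => ⟨heH j s, fun t => (hc₁ t j s).symm⟩)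
      (fun i t => ⟨H.mul_mem (H.mul_mem hu₁ (hfH _ t)) (H.inv_mem hu₁), fun s =>
        ((Commute.units_of_val (hfc i.succ 0 t s)).map (MulAut.conj u₁).toMonoidHom).map (Units.coeHom _)⟩) hec
      (fun i j s t =>
        ((Commute.units_of_val (hfc i.succ j.succ s t)).map (MulAut.conj u₁).toMonoidHom).map (Units.coeHom _))
    refine ⟨u₂ * u₁, H.mul_mem hu₂.1 hu₁, Fin.cases (fun t j s => ?_) fun i t j s => ?_⟩
    · have h2 : Commute u₂ (u₁ * f 0 t * u₁⁻¹) := Units.ext (hu₂.2 t)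
      rw [show u₂ * u₁ * f 0 t * (u₂ * u₁)⁻¹ = u₂ * (u₁ * f 0 t * u₁⁻¹) * u₂⁻¹ by group, h2.eq,
        mul_inv_cancel_right]
      exact hc₁ t j s
    · have := hc₂ i t j s
      rwa [show u₂ * u₁ * f i.succ t * (u₂ * u₁)⁻¹ =
        u₂ * ((MulAut.conj u₁).toMonoidHom.comp (f i.succ)) t * u₂⁻¹ by simp <;> group]

end H20Conj
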