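import Groth.Agent.H21Diag.SplitSubtori

/-!
# The image of a split torus
-/

set_option backward.isDefEq.respectTransparency false

universe u

open CategoryTheory CategoryTheory.Limits MonoidalCategory CartesianMonoidalCategory MonObj AlgebraicGeometry
open Groth.Agent.H21Diag

noncomputable section

namespace H20Conj

variable {S : Scheme.{u}} {G : Over S} [GrpObj G]

theorem exists_image_torus [ConnectedSpace S] [IsSeparated G.hom] [LocallyOfFiniteType G.hom] {n : ℕ}
    (f : Red.DS S (Fin n → ℤ) ⟶ G) [IsMonHom f] :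
    ∃ (Q : Over S) (_ : GrpObj Q) (j : Q ⟶ G), IsMonHom j ∧ Mono j ∧ Red.IsTorus Q ∧ ∃ q, q ≫ j = f := by
  obtain ⟨m, q, j, -, hj, hjm, hqj⟩ := exists_image_connected n f
  refine ⟨Red.DS S (Fin m → ℤ), Red.grpObj_bc _ _, j, hj, hjm, isTorus_of_lSplit (lSplit_of_split (split_DS _ m)), q, hqj⟩

end H20Conj
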