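import Groth.Agent.H20Conj.Split
import Groth.Agent.H20Conj.Image

/-!
# Commuting cocharacters generate a torus
-/

set_option autoImplicit false
set_option linter.style.haveILetI false
set_option backward.isDefEq.respectTransparency false

universe u

open CategoryTheory CategoryTheory.Limits MonoidalCategory CartesianMonoidalCategory MonObj AlgebraicGeometry
open Groth.Agent.H27Witt Groth.Agent.H21Diag H20Mu

noncomputable section

namespace H20Conj

variable {k : Type u} [Field k]

/-- Functions on `G_m × G_m` are determined by their values. -/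
theorem gm2_ext [Infinite k] {F F' : Fn (Red.Gm (Sk k) ⊗ Red.Gm (Sk k))}
    (h : ∀ s t : 𝟙_ (Over (Sk k)) ⟶ Red.Gm (Sk k), val (lift s t) F = val (lift s t) F') : F = F' := by
  haveI : IsAffine (Red.Gm (Sk k)).left := by
    haveI : IsAffine (Red.diag (ULift.{u} ℤ) ℤ).left := inferInstanceAs (IsAffine (Spec _))
    dsimp [Red.Gm, Red.DS, Red.bc]; infer_instance
  obtain ⟨n, a, b, hab⟩ := Fn.exists_decomp (F - F')
  choose sa ca hca using fun i => exists_laurent (a i)
  choose sb cb hcb using fun i => exists_laurent (b i)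
  classical
  let SA := Finset.univ.biUnion sa
  let SB := Finset.univ.biUnion sb
  have hA : ∀ i, a i = ∑ p ∈ SA, (if p ∈ sa i then ca i p else 0) • ((zFn ^ p : (Fn (Red.Gm (Sk k)))ˣ) : Fn (Red.Gm (Sk k))) := fun i => by
    conv_lhs => rw [hca i]
    rw [← Finset.sum_subset (Finset.subset_biUnion_of_mem sa (Finset.mem_univ i)) (fun p _ hp => by rw [if_neg hp, zero_smul])]
    exact Finset.sum_congr rfl fun p hp => by rw [if_pos hp]
  have hB : ∀ i, b i = ∑ p ∈ SB, (if p ∈ sb i then cb i p else 0) • ((zFn ^ p : (Fn (Red.Gm (Sk k)))ˣ) : Fn (Red.Gm (Sk k))) := fun i => by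
    conv_lhs => rw [hcb i]
    rw [← Finset.sum_subset (Finset.subset_biUnion_of_mem sb (Finset.mem_univ i)) (fun p _ hp => by rw [if_neg hp, zero_smul])]
    exact Finset.sum_congr rfl fun p hp => by rw [if_pos hp]
  let C : ℤ → ℤ → k := fun p q => ∑ i, (if p ∈ sa i then ca i p else 0) * (if q ∈ sb i then cb i q else 0)
  have hF : F - F' = ∑ p ∈ SA, ∑ q ∈ SB, C p q •
      (Fn.pull (fst (Red.Gm (Sk k)) (Red.Gm (Sk k))) ((zFn ^ p : (Fn (Red.Gm (Sk k)))ˣ) : Fn (Red.Gm (Sk k))) *
        Fn.pull (snd (Red.Gm (Sk k)) (Red.Gm (Sk k))) ((zFn ^ q : (Fn (Red.Gm (Sk k)))ˣ) : Fn (Red.Gm (Sk k)))) := by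
    rw [hab]
    simp only [C, Finset.sum_smul]
    rw [Finset.sum_congr rfl fun p _ => Finset.sum_comm, Finset.sum_comm]
    refine Finset.sum_congr rfl fun i _ => ?_
    rw [hA i, hB i, map_sum, map_sum, Finset.sum_mul_sum]
    exact Finset.sum_congr rfl fun p _ => Finset.sum_congr rfl fun q _ => by
      rw [map_smul, map_smul, smul_mul_smul_comm]
  have hz : ∀ p ∈ SA, ∀ q ∈ SB, C p q = 0 := by
    intro p hp
    have h1 : ∀ t : kˣ, ∑ q ∈ SB, C p q * ((t ^ q : kˣ) : k) = 0 := fun t => by
      refine laurent_coeff_eq_zero (c := fun p => ∑ q ∈ SB, C p q * ((t ^ q : kˣ) : k)) (fun s => ?_) p hp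
      have h2 : val (lift (ofPar s) (ofPar t)) (F - F') = 0 := by rw [map_sub, h, sub_self]
      rw [hF] at h2
      simp only [map_sum, map_smul, map_mul, val_pull, lift_fst, lift_snd, val_zFn_zpow, par_ofPar, smul_eq_mul] at h2
      refine Eq.trans (Finset.sum_congr rfl fun p _ => ?_) h2
      rw [Finset.sum_mul]
      exact Finset.sum_congr rfl fun q _ => by ring
    exact laurent_coeff_eq_zero h1
  rw [← sub_eq_zero, hF]
  exact Finset.sum_eq_zero fun p hp => Finset.sum_eq_zero fun q hq => by rw [hz p hp q hq, zero_smul]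

variable {G : Over (Sk k)} [GrpObj G] [IsAffine G.left]

/-- One-parameter subgroups commuting on rational points commute universally. -/
theorem commute_of_points [Infinite k] (c d : Red.Gm (Sk k) ⟶ G)
    (h : ∀ s t : 𝟙_ (Over (Sk k)) ⟶ Red.Gm (Sk k), Commute (s ≫ c) (t ≫ d))
    {P : Over (Sk k)} (a b : P ⟶ Red.Gm (Sk k)) : Commute (a ≫ c) (b ≫ d) := by
  have key : (fst (Red.Gm (Sk k)) (Red.Gm (Sk k)) ≫ c) * (snd _ _ ≫ d) = (snd _ _ ≫ d) * (fst _ _ ≫ c) := by
    refine Fn.hom_ext (AlgHom.ext fun F => gm2_ext fun s t => ?_)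
    rw [val_pull, val_pull, MonObj.comp_mul, MonObj.comp_mul, lift_fst_assoc, lift_snd_assoc, (h s t).eq]
  have := congrArg (lift a b ≫ ·) key
  simpa [MonObj.comp_mul, Commute, SemiconjBy] using this

set_option maxHeartbeats 1000000 in
/-- **Commuting cocharacters lie in a common torus.** -/
theorem exists_torus [IsAlgClosed k] [LocallyOfFiniteType G.hom] {n : ℕ} (c : Fin n → (Red.Gm (Sk k) ⟶ G))
    [∀ j, IsMonHom (c j)] (h : ∀ i j, ∀ s t : 𝟙_ (Over (Sk k)) ⟶ Red.Gm (Sk k), Commute (s ≫ c i) (t ≫ c j)) :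
    ∃ (Q : Over (Sk k)) (_ : GrpObj Q) (j : Q ⟶ G), IsMonHom j ∧ Mono j ∧ Red.IsTorus Q ∧
      ∀ i, ∃ d : Red.Gm (Sk k) ⟶ Q, d ≫ j = c i := by
  haveI : Subsingleton (Sk k) := inferInstanceAs (Subsingleton (PrimeSpectrum k))
  haveI : Nonempty (Sk k) := inferInstanceAs (Nonempty (PrimeSpectrum k))
  haveI : ConnectedSpace (Sk k) := { toPreconnectedSpace := inferInstance, toNonempty := inferInstance }
  haveI : IsSeparated G.hom := inferInstance
  let pr : Fin n → (Red.DS (Sk k) (Fin n → ℤ) ⟶ Red.Gm (Sk k)) := fun i =>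
    Red.DSmap (Sk k) (AddMonoidHom.single (fun _ : Fin n => ℤ) i)
  let inj : Fin n → (Red.Gm (Sk k) ⟶ Red.DS (Sk k) (Fin n → ℤ)) := fun i =>
    Red.DSmap (Sk k) (Pi.evalAddMonoidHom (fun _ : Fin n => ℤ) i)
  haveI : ∀ i, IsMonHom (pr i) := fun i => isMonHom_DSmap _ _
  haveI : ∀ i, IsMonHom (inj i) := fun i => isMonHom_DSmap _ _
  let f : Red.DS (Sk k) (Fin n → ℤ) ⟶ G := (List.ofFn fun i => pr i ≫ c i).prod
  have hcomp : ∀ {P : Over (Sk k)} (a : P ⟶ Red.DS (Sk k) (Fin n → ℤ)),
      a ≫ f = (List.ofFn fun i => (a ≫ pr i) ≫ c i).prod := fun a => by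
    let φ : (Red.DS (Sk k) (Fin n → ℤ) ⟶ G) →* (_ ⟶ G) :=
      { toFun := fun m => a ≫ m, map_one' := MonObj.comp_one a, map_mul' := MonObj.comp_mul a }
    show φ f = _
    rw [map_list_prod, List.map_ofFn]
    simp [φ, Function.comp_def]
  have hprod : ∀ {M : Type u} [Monoid M] (m : ℕ) (p q : Fin m → M), (∀ i j, Commute (p i) (q j)) →
      (List.ofFn fun i => p i * q i).prod = (List.ofFn p).prod * (List.ofFn q).prod := by
    intro M _ m
    induction m with
    | zero => intro p q _; simp
    | succ m ih =>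
      intro p q hpq
      rw [List.ofFn_succ, List.ofFn_succ, List.ofFn_succ, List.prod_cons, List.prod_cons, List.prod_cons,
        ih _ _ fun i j => hpq i.succ j.succ]
      have h1 : Commute (q 0) (List.ofFn fun i : Fin m => p i.succ).prod :=
        Commute.list_prod_right _ _ fun x hx => by
          obtain ⟨i, rfl⟩ := List.mem_ofFn.mp hx
          exact (hpq i.succ 0).symm
      calc p 0 * q 0 * ((List.ofFn fun i => p i.succ).prod * (List.ofFn fun i => q i.succ).prod)
          = p 0 * (q 0 * (List.ofFn fun i => p i.succ).prod) * (List.ofFn fun i => q i.succ).prod := by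
            simp only [_root_.mul_assoc]
        _ = _ := by rw [h1.eq]; simp only [_root_.mul_assoc]
  haveI : IsMonHom f := by
    refine isMonHom_of_mul f fun a b => ?_
    rw [hcomp, hcomp, hcomp, ← hprod n _ _ fun i j => commute_of_points (c i) (c j) (h i j) _ _]
    refine congrArg List.prod (List.ofFn_inj.mpr (funext fun i => ?_))
    rw [MonObj.mul_comp, MonObj.mul_comp]
  have hinj : ∀ i, inj i ≫ f = c i := fun i => by
    rw [hcomp]
    have : (fun i' => (inj i ≫ pr i') ≫ c i') = fun i' => if i' = i then c i else 1 := funext fun i' => by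
      by_cases hii : i' = i
      · subst hii
        rw [if_pos rfl, DSmap_comp_eq_id _ _ (AddMonoidHom.ext fun z => by simp), Category.id_comp]
      · rw [if_neg hii, DSmap_comp_eq_one _ _ (AddMonoidHom.ext fun z => by simp [hii, Ne.symm hii]), MonObj.one_comp]
    rw [this]
    clear this hprod hcomp
    have key : ∀ {M : Type u} [Monoid M] (m : ℕ) (x : M) (i : Fin m),
        (List.ofFn fun i' => if i' = i then x else 1).prod = x := by
      intro M _ m
      induction m with
      | zero => exact fun _ i => i.elim0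
      | succ m ih =>
        intro x i
        rw [List.ofFn_succ, List.prod_cons]
        refine Fin.cases ?_ (fun i' => ?_) i
        · have hone : (List.ofFn fun i : Fin m => if i.succ = 0 then x else 1) = List.replicate m 1 := by
            rw [← List.ofFn_const]
            exact List.ofFn_inj.mpr (funext fun i => if_neg (Fin.succ_ne_zero i))
          rw [if_pos rfl, hone, List.prod_replicate, one_pow, _root_.mul_one]
        · rw [if_neg (Fin.succ_ne_zero i').symm, _root_.one_mul]
          simpa [Fin.succ_inj] using ih x i'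
    exact key n (c i) i
  obtain ⟨Q, iQ, j, hj, hjm, hQ, q, hqj⟩ := exists_image_torus f
  exact ⟨Q, iQ, j, hj, hjm, hQ, fun i => ⟨inj i ≫ q, by rw [Category.assoc, hqj, hinj]⟩⟩

end H20Conj
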