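import Mathlib

/-!
# Zariski closed subsets of `GL_N(k)` and one-parameter subgroups
-/

set_option autoImplicit false

universe u

noncomputable section

namespace H20Conj

variable {k : Type u} [Field k] {N : ℕ}

/-- `N × N` matrices. -/
abbrev Mat (k : Type u) (N : ℕ) := Matrix (Fin N) (Fin N) k

/-- Invertible matrices. -/
abbrev GLk (k : Type u) [Field k] (N : ℕ) := (Mat k N)ˣ

/-- Polynomials in the entries. -/
abbrev EPoly (k : Type u) [Field k] (N : ℕ) := MvPolynomial (Fin N × Fin N) k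

/-- Evaluation at a matrix. -/
def evM (g : GLk k N) : EPoly k N →ₐ[k] k := MvPolynomial.aeval fun ij => (g : Mat k N) ij.1 ij.2

/-- The vanishing ideal. -/
def vIdeal (H : Set (GLk k N)) : Ideal (EPoly k N) := ⨅ h ∈ H, RingHom.ker (evM h)

theorem mem_vIdeal {H : Set (GLk k N)} {p : EPoly k N} : p ∈ vIdeal H ↔ ∀ h ∈ H, evM h p = 0 := by
  simp [vIdeal]

/-- Zariski closed subsets of `GL_N(k)`. -/
def IsZClosed (H : Set (GLk k N)) : Prop := ∀ g, (∀ p ∈ vIdeal H, evM g p = 0) → g ∈ H

theorem vIdeal_mono {H K : Set (GLk k N)} (h : H ⊆ K) : vIdeal K ≤ vIdeal H :=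
  fun _ hp => mem_vIdeal.mpr fun g hg => mem_vIdeal.mp hp g (h hg)

theorem subset_of_vIdeal_le {H K : Set (GLk k N)} (hH : IsZClosed H) (h : vIdeal H ≤ vIdeal K) : K ⊆ H :=
  fun g hg => hH g fun p hp => mem_vIdeal.mp (h hp) g hg

theorem vIdeal_lt {H K : Set (GLk k N)} (hH : IsZClosed H) (h : H ⊂ K) : vIdeal K < vIdeal H :=
  lt_of_le_not_ge (vIdeal_mono h.subset) fun h' => h.not_subset (subset_of_vIdeal_le hH h')

theorem isZClosed_inter {H K : Set (GLk k N)} (hH : IsZClosed H) (hK : IsZClosed K) : IsZClosed (H ∩ K) :=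
  fun g hg => ⟨hH g fun p hp => hg p (vIdeal_mono Set.inter_subset_left hp),
    hK g fun p hp => hg p (vIdeal_mono Set.inter_subset_right hp)⟩

theorem isZClosed_univ : IsZClosed (Set.univ : Set (GLk k N)) := fun _ _ => trivial

theorem isZClosed_iInter {ι : Sort*} {H : ι → Set (GLk k N)} (h : ∀ i, IsZClosed (H i)) : IsZClosed (⋂ i, H i) :=
  fun g hg => Set.mem_iInter.mpr fun i => h i g fun p hp => hg p (vIdeal_mono (Set.iInter_subset _ i) hp)

/-- Sets cut out by polynomial matrices. -/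
theorem isZClosed_of_matrix {ι : Type*} {n m : Type*} (P : ι → Matrix n m (EPoly k N)) :
    IsZClosed {g : GLk k N | ∀ i, (P i).map (evM g) = 0} := by
  intro g hg i
  ext a b
  exact hg _ (mem_vIdeal.mpr fun h hh => congrFun (congrFun (hh i) a) b)

/-- The polynomial of a linear functional. -/
def linPoly (ψ : Mat k N →ₗ[k] k) : EPoly k N :=
  ∑ a, ∑ b, MvPolynomial.C (ψ (Matrix.single a b 1)) * MvPolynomial.X (a, b)

theorem evM_linPoly (ψ : Mat k N →ₗ[k] k) (g : GLk k N) : evM g (linPoly ψ) = ψ (g : Mat k N) := by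
  conv_rhs => rw [Matrix.matrix_eq_sum_single (g : Mat k N)]
  simp only [linPoly, evM, map_sum, map_mul, MvPolynomial.aeval_C, MvPolynomial.aeval_X, Algebra.algebraMap_self,
    RingHom.id_apply]
  refine Finset.sum_congr rfl fun a _ => Finset.sum_congr rfl fun b _ => ?_
  rw [show Matrix.single a b ((g : Mat k N) a b) = (g : Mat k N) a b • Matrix.single a b (1 : k) by simp,
    map_smul, smul_eq_mul, mul_comm]

/-- Sets cut out by affine-linear conditions. -/
theorem isZClosed_affine {ι : Type*} (ψ : ι → Mat k N →ₗ[k] k) (c : ι → k) :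
    IsZClosed {g : GLk k N | ∀ i, ψ i g = c i} := by
  intro g hg i
  have := hg (linPoly (ψ i) - MvPolynomial.C (c i)) (mem_vIdeal.mpr fun h hh => by
    rw [map_sub, evM_linPoly, hh i]; simp [evM])
  rw [map_sub, evM_linPoly] at this
  simpa [evM, sub_eq_zero] using this

theorem map_evM_C (M : Mat k N) (g : GLk k N) : (M.map MvPolynomial.C : Matrix _ _ (EPoly k N)).map (evM g) = M := by
  ext a b; simp [evM]

theorem map_evM_X (g : GLk k N) :
    (Matrix.mvPolynomialX (Fin N) (Fin N) k).map (evM g) = (g : Mat k N) := by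
  ext a b; simp [evM]

/-- The centraliser of a matrix is closed. -/
theorem isZClosed_commute {ι : Type*} (x : ι → Mat k N) :
    IsZClosed {g : GLk k N | ∀ i, Commute (g : Mat k N) (x i)} := by
  have h := isZClosed_of_matrix (k := k) (N := N) (ι := ι) fun i =>
    Matrix.mvPolynomialX (Fin N) (Fin N) k * (x i).map MvPolynomial.C -
      (x i).map MvPolynomial.C * Matrix.mvPolynomialX (Fin N) (Fin N) k
  simpa only [Matrix.map_sub _ (fun a b => map_sub _ a b), Matrix.map_mul, map_evM_C, map_evM_X, sub_eq_zero,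
    Commute, SemiconjBy] using h

/-- The centraliser as a subgroup. -/
def centSub {ι : Type*} (x : ι → Mat k N) : Subgroup (GLk k N) where
  carrier := {g | ∀ i, Commute (g : Mat k N) (x i)}
  mul_mem' ha hb i := (ha i).mul_left (hb i)
  one_mem' i := Commute.one_left _
  inv_mem' ha i := (ha i).units_inv_left

theorem mem_centSub {ι : Type*} {x : ι → Mat k N} {g : GLk k N} :
    g ∈ centSub x ↔ ∀ i, Commute (g : Mat k N) (x i) := Iff.rfl

/-- A family of matrices depending on a parameter by a Laurent polynomial. -/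
def IsLaurent (e : kˣ →* GLk k N) : Prop :=
  ∃ (s : Finset ℤ) (M : ℤ → Mat k N), ∀ t : kˣ, (e t : Mat k N) = ∑ i ∈ s, ((t ^ i : kˣ) : k) • M i

theorem laurent_zero [Infinite k] {s : Finset ℤ} {c : ℤ → k}
    (h : ∀ u : kˣ, ∑ i ∈ s, c i * ((u ^ i : kˣ) : k) = 0) : ∀ i ∈ s, c i = 0 := by
  have hinj : Function.Injective fun i : ℤ => (Units.coeHom k).comp (zpowGroupHom i : kˣ →* kˣ) := by
    intro i j hij
    by_contra hne
    wlog hlt : j < i generalizing i j
    · exact this hij.symm (Ne.symm hne) (lt_of_le_of_ne (not_lt.mp hlt) hne)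
    obtain ⟨d, hd, hdij⟩ : ∃ d : ℕ, 0 < d ∧ (d : ℤ) = i - j := ⟨(i - j).toNat, by omega, by omega⟩
    have hroots : ∀ u : kˣ, u ^ d = 1 := fun u => by
      have h1 : u ^ i = u ^ j := Units.ext (DFunLike.congr_fun hij u)
      rw [← zpow_natCast, hdij, zpow_sub, h1, mul_inv_cancel]
    have hne0 : (Polynomial.X ^ d - 1 : Polynomial k) ≠ 0 := (Polynomial.monic_X_pow_sub_C 1 hd.ne').ne_zero
    refine hne0 (Polynomial.eq_zero_of_infinite_isRoot _ ?_)
    refine Set.Infinite.mono ?_ (Set.finite_singleton (0 : k)).infinite_compl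
    intro a ha
    have := congrArg Units.val (hroots (Units.mk0 a ha))
    simp only [Units.val_pow_eq_pow_val, Units.val_mk0, Units.val_one] at this
    simp [Polynomial.IsRoot, this]
  have hli := (linearIndependent_monoidHom kˣ k).comp _ hinj
  intro i hi
  refine linearIndependent_iff'.mp hli s c (funext fun u => ?_) i hi
  simpa [Finset.sum_apply] using h u

theorem laurent_zero_mat [Infinite k] {s : Finset ℤ} {M : ℤ → Mat k N}
    (h : ∀ u : kˣ, ∑ i ∈ s, ((u ^ i : kˣ) : k) • M i = 0) : ∀ i ∈ s, M i = 0 := fun i hi => by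
  ext a b
  exact laurent_zero (c := fun i => M i a b) (fun u => by
    have := congrFun (congrFun (h u) a) b
    simpa [Matrix.sum_apply, mul_comm] using this) i hi

/-- Weight decomposition of a one-parameter subgroup. -/
theorem exists_weights [Infinite k] {e : kˣ →* GLk k N} (he : IsLaurent e) :
    ∃ (s : Finset ℤ) (P : ℤ → Mat k N), (∀ t : kˣ, (e t : Mat k N) = ∑ i ∈ s, ((t ^ i : kˣ) : k) • P i) ∧
      ∑ i ∈ s, P i = 1 ∧ (∀ t : kˣ, ∀ i ∈ s, (e t : Mat k N) * P i = ((t ^ i : kˣ) : k) • P i) ∧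
      (∀ x : Mat k N, (∀ t, Commute x (e t)) → ∀ i ∈ s, Commute x (P i)) := by
  obtain ⟨s, P, hP⟩ := he
  refine ⟨s, P, hP, by simpa using (hP 1).symm, fun t i hi => ?_, fun x hx i hi => ?_⟩
  · refine sub_eq_zero.mp (laurent_zero_mat (M := fun i => (e t : Mat k N) * P i - ((t ^ i : kˣ) : k) • P i)
      (fun u => ?_) i hi)
    simp only [smul_sub, Finset.sum_sub_distrib, ← Matrix.mul_smul, ← Finset.mul_sum, ← hP, smul_smul]
    rw [← Units.val_mul, ← map_mul, hP, sub_eq_zero]
    exact Finset.sum_congr rfl fun j _ => by rw [mul_zpow, Units.val_mul, mul_comm]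
  · exact sub_eq_zero.mp (laurent_zero_mat (M := fun i => x * P i - P i * x) (fun u => by
      simp only [smul_sub, Finset.sum_sub_distrib]
      simp only [← Matrix.mul_smul x, ← Matrix.smul_mul _ (P _) x]
      rw [← Finset.mul_sum, ← Finset.sum_mul, ← hP, sub_eq_zero]
      exact hx u) i hi)

theorem IsLaurent.conj {e : kˣ →* GLk k N} (he : IsLaurent e) (h : GLk k N) :
    IsLaurent ((MulAut.conj h).toMonoidHom.comp e) := by
  obtain ⟨s, M, hM⟩ := he
  refine ⟨s, fun i => (h : Mat k N) * M i * (h⁻¹ : GLk k N), fun t => ?_⟩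
  simp [hM t, Finset.mul_sum, Finset.sum_mul]

end H20Conj
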