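import Groth.Agent.H20Mu.Values
import Groth.Agent.H20Conj.Zariski

/-!
# A closed embedding of the points of an affine group in `GL_N(k)`
-/

set_option autoImplicit false
set_option linter.style.haveILetI false
set_option backward.isDefEq.respectTransparency false

universe u

open CategoryTheory CategoryTheory.Limits MonoidalCategory CartesianMonoidalCategory MonObj AlgebraicGeometry
open Groth.Agent.H27Witt H20Mu

noncomputable section

namespace H20Conj

variable {k : Type u} [Field k]

theorem pull_const {X Y : Over (Sk k)} (y : 𝟙_ (Over (Sk k)) ⟶ Y) (c : Fn Y) :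
    Fn.pull (toUnit X ≫ y) c = algebraMap k (Fn X) (val y c) := by
  rw [← Fn.pull_pull, show Fn.pull y c = algebraMap k (Fn (T0 k)) (val y c) from (struct_gamma _).symm]
  exact (Fn.pull (toUnit X)).commutes _

variable (G : Over (Sk k)) [GrpObj G]

/-- Right translation by a rational point. -/
def rg (g : 𝟙_ (Over (Sk k)) ⟶ G) : G ⟶ G := 𝟙 G * (toUnit G ≫ g)

/-- Right translation of functions. -/
def rTrans : (𝟙_ (Over (Sk k)) ⟶ G) →* Module.End k (Fn G) where
  toFun g := (Fn.pull (rg G g)).toLinearMap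
  map_one' := by
    refine LinearMap.ext fun a => ?_
    show Fn.pull (rg G 1) a = a
    rw [rg, MonObj.comp_one, _root_.mul_one, Fn.pull_id]
    rfl
  map_mul' g h := by
    refine LinearMap.ext fun a => ?_
    show Fn.pull (rg G (g * h)) a = Fn.pull (rg G g) (Fn.pull (rg G h) a)
    rw [Fn.pull_pull]
    refine congrArg (fun m => Fn.pull m a) ?_
    rw [rg, rg, rg, MonObj.comp_mul, MonObj.comp_mul, Category.comp_id, ← Category.assoc _ (toUnit G) h,
      comp_toUnit, _root_.mul_assoc]

theorem one_comp_rg (g : 𝟙_ (Over (Sk k)) ⟶ G) : (1 : 𝟙_ (Over (Sk k)) ⟶ G) ≫ rg G g = g := by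
  rw [rg, MonObj.comp_mul, Category.comp_id, _root_.one_mul, ← Category.assoc, comp_toUnit,
    toUnit_unique (toUnit _) (𝟙 _), Category.id_comp]

theorem rTrans_decomp [IsAffine G.left] (a : Fn G) : ∃ (n : ℕ) (b c : Fin n → Fn G),
    ∀ g, rTrans G g a = ∑ i, val g (c i) • b i := by
  obtain ⟨n, b, c, h⟩ := Fn.exists_decomp (Fn.pull (μ[G]) a)
  refine ⟨n, b, c, fun g => ?_⟩
  show Fn.pull (rg G g) a = _
  rw [rg, Hom.mul_def, ← Fn.pull_pull, h, map_sum]
  refine Finset.sum_congr rfl fun i _ => ?_
  rw [map_mul, Fn.pull_pull, Fn.pull_pull, lift_fst, lift_snd, Fn.pull_id, pull_const, Algebra.smul_def,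
    _root_.mul_comm]
  rfl

/-- A closed embedding of the group of rational points, with entries generating the functions. -/
theorem exists_rep_gen [IsAlgClosed k] [IsAffine G.left] [Smooth G.hom] :
    ∃ (N : ℕ) (φ : (𝟙_ (Over (Sk k)) ⟶ G) →* GLk k N) (F : Fin N → Fin N → Fn G),
      Function.Injective φ ∧ IsZClosed (φ.range : Set (GLk k N)) ∧
      (∀ g p q, (φ g : Mat k N) p q = val g (F p q)) ∧
      Function.Surjective (MvPolynomial.aeval (R := k) fun pq : Fin N × Fin N => F pq.1 pq.2) := by
  classical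
  haveI := Fn.finiteType G
  obtain ⟨S, hS⟩ := (inferInstance : Algebra.FiniteType k (Fn G)).out
  let W : Submodule k (Fn G) := Submodule.span k (Set.range fun x : (𝟙_ (Over (Sk k)) ⟶ G) × S => rTrans G x.1 x.2)
  have hfin : Module.Finite k W := by
    choose n b c hbc using fun s : S => rTrans_decomp G s.1
    haveI : Module.Finite k (Submodule.span k (Set.range fun x : Σ s : S, Fin (n s) => b x.1 x.2)) :=
      Module.Finite.span_of_finite k (Set.finite_range _)
    refine Submodule.finiteDimensional_of_le (Submodule.span_le.mpr ?_ :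
      W ≤ Submodule.span k (Set.range fun x : Σ s : S, Fin (n s) => b x.1 x.2))
    rintro _ ⟨⟨g, s⟩, rfl⟩
    show rTrans G g s.1 ∈ _
    rw [hbc]
    exact Submodule.sum_mem _ fun i _ => Submodule.smul_mem _ _ (Submodule.subset_span ⟨⟨s, i⟩, rfl⟩)
  have hstab : ∀ g, ∀ w ∈ W, rTrans G g w ∈ W := fun g w hw => by
    have hle : W ≤ W.comap (rTrans G g) := Submodule.span_le.mpr (by
      rintro _ ⟨⟨h, s⟩, rfl⟩
      exact Submodule.subset_span ⟨⟨g * h, s⟩, LinearMap.congr_fun (map_mul (rTrans G) g h) s.1⟩)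
    exact hle hw
  let bW := Module.finBasis k W
  let R : (𝟙_ (Over (Sk k)) ⟶ G) →* Mat k (Module.finrank k W) :=
    { toFun := fun g => LinearMap.toMatrix bW bW ((rTrans G g).restrict (hstab g))
      map_one' := by
        rw [← LinearMap.toMatrix_one bW]
        congr 1
        exact LinearMap.ext fun w => Subtype.ext (by rw [LinearMap.coe_restrict_apply, map_one]; rfl)
      map_mul' := fun g h => by
        rw [← LinearMap.toMatrix_mul]
        congr 1
        exact LinearMap.ext fun w => Subtype.ext (by rw [LinearMap.coe_restrict_apply, map_mul]; rfl) }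
  let φ := R.toHomUnits
  have hF : ∀ p q, ∃ F : Fn G, ∀ g, (φ g : Mat k (Module.finrank k W)) p q = val g F := by
    intro p q
    obtain ⟨ψ, hψ⟩ := LinearMap.exists_extend (bW.coord p)
    obtain ⟨n, b, c, hbc⟩ := rTrans_decomp G (bW q : Fn G)
    refine ⟨∑ i, ψ (b i) • c i, fun g => ?_⟩
    show LinearMap.toMatrix bW bW ((rTrans G g).restrict (hstab g)) p q = _
    rw [LinearMap.toMatrix_apply, ← Module.Basis.coord_apply, ← hψ, LinearMap.comp_apply, Submodule.coe_subtype,
      LinearMap.coe_restrict_apply, hbc, map_sum, map_sum]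
    exact Finset.sum_congr rfl fun i _ => by rw [map_smul, map_smul, smul_eq_mul, smul_eq_mul, _root_.mul_comm]
  choose F hF using hF
  let π : EPoly k (Module.finrank k W) →ₐ[k] Fn G := MvPolynomial.aeval fun pq => F pq.1 pq.2
  have hval : ∀ g p, val g (π p) = evM (φ g) p := fun g p => by
    show ((val g).comp π) p = _
    rw [MvPolynomial.comp_aeval]
    exact congrArg (fun f : _ →ₐ[k] k => f p) (congrArg MvPolynomial.aeval (funext fun pq => (hF pq.1 pq.2 g).symm))
  have hsurj : Function.Surjective π := by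
    rw [← AlgHom.range_eq_top, eq_top_iff, ← hS, Algebra.adjoin_le_iff]
    intro s hs
    have hsW : s ∈ W := Submodule.subset_span ⟨⟨1, ⟨s, hs⟩⟩, LinearMap.congr_fun (map_one (rTrans G)) s⟩
    refine ⟨∑ p, val 1 (bW p : Fn G) • ∑ q, bW.repr ⟨s, hsW⟩ q • MvPolynomial.X (p, q), Fn.ext_points fun g => ?_⟩
    show val g (π _) = val g s
    have h1 : val g s = val 1 (rTrans G g s) := by
      show _ = val 1 (Fn.pull (rg G g) s)
      rw [val_pull, one_comp_rg]
    rw [h1, hval, show rTrans G g s = (((rTrans G g).restrict (hstab g)) ⟨s, hsW⟩ : Fn G) from rfl,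
      ← bW.sum_repr (((rTrans G g).restrict (hstab g)) ⟨s, hsW⟩), Submodule.coe_sum, map_sum, map_sum]
    refine Finset.sum_congr rfl fun p _ => ?_
    rw [Submodule.coe_smul, map_smul, map_smul, map_sum, smul_eq_mul, smul_eq_mul, _root_.mul_comm]
    refine congrArg (· * _) ?_
    rw [← congrFun (LinearMap.toMatrix_mulVec_repr bW bW ((rTrans G g).restrict (hstab g)) ⟨s, hsW⟩) p,
      Matrix.mulVec, dotProduct]
    refine Finset.sum_congr rfl fun q _ => ?_
    rw [map_smul, evM, MvPolynomial.aeval_X, smul_eq_mul, _root_.mul_comm]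
    rfl
  refine ⟨_, φ, F, fun g h e => ?_, fun M hM => ?_, fun g p q => hF p q g, hsurj⟩
  · refine Fn.point_ext (AlgHom.ext fun a => ?_)
    obtain ⟨p, rfl⟩ := hsurj a
    show val g (π p) = val h (π p)
    rw [hval, hval, e]
  · have hker : ∀ p, π p = 0 → evM M p = 0 := fun p hp => hM p (mem_vIdeal.mpr (by
      rintro _ ⟨g, rfl⟩
      rw [← hval, hp, map_zero]))
    let χ : Fn G →ₐ[k] k := (Ideal.Quotient.liftₐ (RingHom.ker π) (evM M) hker).comp
      (Ideal.quotientKerAlgEquivOfSurjective hsurj).symm.toAlgHom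
    obtain ⟨g, hg⟩ := Fn.exists_point χ
    refine ⟨g, Units.ext (Matrix.ext fun p q => ?_)⟩
    have h1 : val g (π (MvPolynomial.X (p, q))) = evM M (MvPolynomial.X (p, q)) := by
      show Fn.ev g _ = _
      rw [hg]
      show Ideal.Quotient.liftₐ (RingHom.ker π) (evM M) hker ((Ideal.quotientKerAlgEquivOfSurjective hsurj).symm
        (π (MvPolynomial.X (p, q)))) = _
      rw [show π (MvPolynomial.X (p, q)) = Ideal.quotientKerAlgEquivOfSurjective hsurj
        (Ideal.Quotient.mk _ (MvPolynomial.X (p, q))) from rfl, AlgEquiv.symm_apply_apply]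
      rfl
    rw [hval] at h1
    simpa [evM] using h1

/-- **A closed embedding of the group of rational points.** -/
theorem exists_rep [IsAlgClosed k] [IsAffine G.left] [Smooth G.hom] :
    ∃ (N : ℕ) (φ : (𝟙_ (Over (Sk k)) ⟶ G) →* GLk k N) (F : Fin N → Fin N → Fn G),
      Function.Injective φ ∧ IsZClosed (φ.range : Set (GLk k N)) ∧
      ∀ g p q, (φ g : Mat k N) p q = val g (F p q) :=
  let ⟨N, φ, F, h1, h2, h3, _⟩ := exists_rep_gen G
  ⟨N, φ, F, h1, h2, h3⟩

end H20Conj
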