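import Groth.Agent.H20Conj.Main
import Groth.Agent.H20Conj.Rep
import Groth.Agent.H20Conj.CommTorus
import Groth.Agent.H20Mu.Conj
import Groth.Prelude.Def_AGF

/-!
# One-parameter subgroups are conjugate into any maximal torus
-/

set_option autoImplicit false
set_option linter.style.haveILetI false
set_option backward.isDefEq.respectTransparency false

universe u

open CategoryTheory CategoryTheory.Limits MonoidalCategory CartesianMonoidalCategory MonObj AlgebraicGeometry
open Groth.Agent.H27Witt H20Mu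

noncomputable section

namespace H20Conj

variable {k : Type u} [Field k]

theorem par_injective {u v : 𝟙_ (Over (Sk k)) ⟶ Red.Gm (Sk k)} (h : par u = par v) : u = v := by
  have h1 := congrArg Units.val h
  rw [par_eq, par_eq] at h1
  rw [← GmPts.ptOfUnit_unitOfPt u, ← GmPts.ptOfUnit_unitOfPt v]
  refine congrArg GmPts.ptOfUnit (Units.ext ?_)
  exact (struct_gamma _).symm.trans ((congrArg (struct (T0 k)) h1).trans (struct_gamma _))

theorem ofPar_par (u : 𝟙_ (Over (Sk k)) ⟶ Red.Gm (Sk k)) : ofPar (par u) = u := par_injective (par_ofPar _)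

/-- Parameters as a homomorphism. -/
def ofParHom : kˣ →* (𝟙_ (Over (Sk k)) ⟶ Red.Gm (Sk k)) where
  toFun := ofPar
  map_one' := par_injective (by rw [par_ofPar, par_one])
  map_mul' s t := par_injective (by rw [par_ofPar, par_mul, par_ofPar, par_ofPar])

/-- `G_m` is commutative. -/
theorem _root_.H20Mu.gm_comm {P : Over (Sk k)} (s t : P ⟶ Red.Gm (Sk k)) : s * t = t * s := by
  refine gm_pt_ext ?_
  exact congrArg Units.val ((GmPts.unitOfPt_mul s t).trans ((_root_.mul_comm _ _).trans (GmPts.unitOfPt_mul t s).symm))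

variable {G : Over (Sk k)} [GrpObj G]

theorem conjBy_eq {H : Over (Sk k)} (g : 𝟙_ (Over (Sk k)) ⟶ G) (i : H ⟶ G) :
    AGF.conjBy g i = i ≫ H20Mu.conj g⁻¹ := by
  rw [H20Mu.comp_conj, GrpObj.comp_inv, inv_inv]

theorem comp_conjBy {P H : Over (Sk k)} (g : 𝟙_ (Over (Sk k)) ⟶ G) (i : H ⟶ G) (x : P ⟶ H) :
    x ≫ AGF.conjBy g i = AGF.conjBy g (x ≫ i) := by
  rw [conjBy_eq, conjBy_eq, Category.assoc]

variable [IsAlgClosed k] [IsAffine G.left] [Smooth G.hom]

/-- A family of commuting one-parameter subgroups is conjugate into any maximal torus. -/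
theorem exists_conj_factor {T : Over (Sk k)} [GrpObj T] {i : T ⟶ G} (hi : AGF.IsMaxTorus i) {m : ℕ}
    (c : Fin m → (Red.Gm (Sk k) ⟶ G)) [∀ j, IsMonHom (c j)]
    (hc : ∀ a b, ∀ s t : 𝟙_ (Over (Sk k)) ⟶ Red.Gm (Sk k), Commute (s ≫ c a) (t ≫ c b)) :
    ∃ g : 𝟙_ (Over (Sk k)) ⟶ G, ∀ j, ∃ d : Red.Gm (Sk k) ⟶ T, d ≫ i = AGF.conjBy g (c j) := by
  obtain ⟨hm, hmono, hT, hmax⟩ := hi
  obtain ⟨r, e, co, he, -, hprod, hcomm⟩ := exists_cochars T hT
  obtain ⟨N, φ, F, hinj, hclosed, hF⟩ := exists_rep G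
  let toHom : ∀ (x : Red.Gm (Sk k) ⟶ G), IsMonHom x → kˣ →* GLk k N := fun x hx =>
    φ.comp ((({ toFun := fun u => u ≫ x, map_one' := MonObj.one_comp x, map_mul' := fun a b => MonObj.mul_comp a b x } :
      (𝟙_ (Over (Sk k)) ⟶ Red.Gm (Sk k)) →* (𝟙_ (Over (Sk k)) ⟶ G))).comp ofParHom)
  have htoHom : ∀ x hx t, toHom x hx t = φ (ofPar t ≫ x) := fun x hx t => rfl
  have hlau : ∀ x hx, IsLaurent (toHom x hx) := fun x hx => by
    classical
    choose s cc hsc using fun pq : Fin N × Fin N => exists_laurent (Fn.pull x (F pq.1 pq.2))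
    refine ⟨Finset.univ.biUnion s, fun n => Matrix.of fun p q => if n ∈ s (p, q) then cc (p, q) n else 0, fun t => ?_⟩
    ext p q
    rw [htoHom x hx, hF, ← val_pull, hsc (p, q), map_sum, Matrix.sum_apply,
      ← Finset.sum_subset (Finset.subset_biUnion_of_mem s (Finset.mem_univ (p, q))) (fun n _ hn => by simp [hn])]
    refine Finset.sum_congr rfl fun n hn => ?_
    simp [hn, val_zFn_zpow, par_ofPar, mul_comm]
  have heG : ∀ j, IsMonHom (e j ≫ i) := fun j => haveI := he j; inferInstance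
  have hee : ∀ a b, ∀ s t : 𝟙_ (Over (Sk k)) ⟶ Red.Gm (Sk k), Commute (s ≫ e a ≫ i) (t ≫ e b ≫ i) := fun a b s t => by
    rw [← Category.assoc, ← Category.assoc, Commute, SemiconjBy, ← MonObj.mul_comp, ← MonObj.mul_comp,
      hcomm (s ≫ e a) (t ≫ e b)]
  obtain ⟨_, ⟨g, rfl⟩, hg⟩ := exists_conj φ.range hclosed (fun j => toHom _ (heG j)) (fun j => toHom (c j) inferInstance)
    (fun j => hlau _ (heG j)) (fun j => hlau (c j) inferInstance) (fun j t => ⟨_, rfl⟩) (fun j t => ⟨_, rfl⟩)
    (fun a b s t => ((hee a b (ofPar s) (ofPar t)).map φ).map (Units.coeHom _))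
    (fun a b s t => ((hc a b (ofPar s) (ofPar t)).map φ).map (Units.coeHom _))
  let fam : Fin (r + m) → (Red.Gm (Sk k) ⟶ G) := Fin.append (fun j => e j ≫ i) (fun j => AGF.conjBy g (c j))
  haveI : ∀ a, IsMonHom (fam a) := Fin.addCases (fun j => by simp only [fam, Fin.append_left]; exact heG j)
    (fun j => by simp only [fam, Fin.append_right]; rw [conjBy_eq]; infer_instance)
  have hmix : ∀ a b, ∀ s t : 𝟙_ (Over (Sk k)) ⟶ Red.Gm (Sk k), Commute (s ≫ e a ≫ i) (t ≫ AGF.conjBy g (c b)) := by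
    intro a b s t
    have h1 : Commute (φ (g * (t ≫ c b) * g⁻¹)) (φ (s ≫ e a ≫ i)) := by
      have := hg b (par t) a (par s)
      simp only [htoHom, ofPar_par] at this
      rw [map_mul, map_mul, map_inv]
      exact Units.ext this.eq
    have h2 : t ≫ AGF.conjBy g (c b) = g * (t ≫ c b) * g⁻¹ := by
      rw [comp_conjBy, AGF.conjBy, toUnit_unique (toUnit _) (𝟙 _), Category.id_comp]
    rw [h2]
    exact hinj (by simpa only [map_mul] using h1.eq.symm)
  have hcc : ∀ a b, ∀ s t : 𝟙_ (Over (Sk k)) ⟶ Red.Gm (Sk k),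
      Commute (s ≫ AGF.conjBy g (c a)) (t ≫ AGF.conjBy g (c b)) := fun a b s t => by
    rw [comp_conjBy, comp_conjBy, conjBy_eq, conjBy_eq, Commute, SemiconjBy, ← MonObj.mul_comp, ← MonObj.mul_comp,
      (hc a b s t).eq]
  obtain ⟨Q, iQ, j, hj, hjm, hQ, hfac⟩ := exists_torus fam (Fin.addCases
    (fun a => Fin.addCases (fun b s t => by simp only [fam, Fin.append_left]; exact hee a b s t)
      (fun b s t => by simp only [fam, Fin.append_left, Fin.append_right]; exact hmix a b s t))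
    (fun a => Fin.addCases (fun b s t => by simp only [fam, Fin.append_left, Fin.append_right]; exact (hmix b a t s).symm)
      (fun b s t => by simp only [fam, Fin.append_right]; exact hcc a b s t)))
  choose d hd using hfac
  let f : T ⟶ Q := (List.ofFn fun a => co a ≫ d (Fin.castAdd m a)).prod
  have hf : f ≫ j = i := by
    have hhom : ∀ {Y : Over (Sk k)} [GrpObj Y] (x : Y ⟶ G) [IsMonHom x] (L : List (T ⟶ Y)),
        L.prod ≫ x = (L.map (· ≫ x)).prod := by
      intro Y _ x _ L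
      induction L with
      | nil => rw [List.prod_nil, List.map_nil, List.prod_nil, MonObj.one_comp]
      | cons a L ih => rw [List.prod_cons, List.map_cons, List.prod_cons, MonObj.mul_comp, ih]
    rw [hhom, List.map_ofFn]
    conv_rhs => rw [← Category.id_comp i, ← hprod, hhom, List.map_ofFn]
    refine congrArg List.prod (List.ofFn_inj.mpr (funext fun a => ?_))
    show (co a ≫ d (Fin.castAdd m a)) ≫ j = (co a ≫ e a) ≫ i
    rw [Category.assoc, hd, Category.assoc]
    simp [fam]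
  haveI := hmax Q j f hQ hf
  refine ⟨g, fun a => ⟨d (Fin.natAdd r a) ≫ inv f, ?_⟩⟩
  rw [Category.assoc, ← hf, IsIso.inv_hom_id_assoc, hd]
  simp [fam]

end H20Conj
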