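import Mathlib

/-!
# Two dominant maps of affine varieties have images that meet
-/

set_option autoImplicit false

universe u v w x

noncomputable section

open TensorProduct

namespace H20Conj

theorem exists_point {k : Type u} [Field k] [IsAlgClosed k] (S : Type v) [CommRing S] [Algebra k S]
    [Algebra.FiniteType k S] [Nontrivial S] : Nonempty (S →ₐ[k] k) := by
  obtain ⟨m, hm⟩ := Ideal.exists_maximal S
  let _ : Field (S ⧸ m) := Ideal.Quotient.field m
  haveI : Algebra.FiniteType k (S ⧸ m) :=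
    Algebra.FiniteType.of_surjective (Ideal.Quotient.mkₐ k m) (Ideal.Quotient.mkₐ_surjective k m)
  haveI : Module.Finite k (S ⧸ m) := finite_of_finite_type_of_isJacobsonRing k (S ⧸ m)
  let e := AlgEquiv.ofBijective (Algebra.ofId k (S ⧸ m)) IsAlgClosed.algebraMap_bijective_of_isIntegral
  exact ⟨e.symm.toAlgHom.comp (Ideal.Quotient.mkₐ k m)⟩

theorem exists_common_point {k : Type u} [Field k] [IsAlgClosed k] {P : Type v} [CommRing P] [Algebra k P]
    {B₁ : Type w} [CommRing B₁] [Algebra k B₁] [Algebra.FiniteType k B₁] [Nontrivial B₁]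
    {B₂ : Type x} [CommRing B₂] [Algebra k B₂] [Algebra.FiniteType k B₂]
    (φ₁ : P →ₐ[k] B₁) (φ₂ : P →ₐ[k] B₂)
    (hker : RingHom.ker φ₁ = RingHom.ker φ₂) :
    ∃ (χ₁ : B₁ →ₐ[k] k) (χ₂ : B₂ →ₐ[k] k), χ₁.comp φ₁ = χ₂.comp φ₂ := by
  have hne : RingHom.ker φ₁ ≠ ⊤ := RingHom.ker_ne_top _
  obtain ⟨p, hp⟩ := Ideal.nonempty_minimalPrimes hne
  obtain ⟨q₁, hq₁, -, e₁⟩ := Ideal.exists_comap_eq_of_mem_minimalPrimes (I := (⊥ : Ideal B₁)) φ₁.toRingHom p
    (show p ∈ (Ideal.comap φ₁.toRingHom ⊥).minimalPrimes from hp)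
  obtain ⟨q₂, hq₂, -, e₂⟩ := Ideal.exists_comap_eq_of_mem_minimalPrimes (I := (⊥ : Ideal B₂)) φ₂.toRingHom p
    (show p ∈ (Ideal.comap φ₂.toRingHom ⊥).minimalPrimes from (hker ▸ hp : p ∈ (RingHom.ker φ₂).minimalPrimes))
  haveI := hp.1.1
  letI : Algebra p.ResidueField q₁.ResidueField := (Ideal.ResidueField.map p q₁ φ₁.toRingHom e₁.symm).toAlgebra
  letI : Algebra p.ResidueField q₂.ResidueField := (Ideal.ResidueField.map p q₂ φ₂.toRingHom e₂.symm).toAlgebra
  let L := q₁.ResidueField ⊗[p.ResidueField] q₂.ResidueField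
  haveI : Nontrivial L := inferInstance
  let i₁ : B₁ →+* L := (Algebra.TensorProduct.includeLeftRingHom).comp (algebraMap B₁ q₁.ResidueField)
  let i₂ : B₂ →+* L :=
    (Algebra.TensorProduct.includeRight : q₂.ResidueField →ₐ[p.ResidueField] L).toRingHom.comp
      (algebraMap B₂ q₂.ResidueField)
  have hagree : ∀ z : P, i₁ (φ₁ z) = i₂ (φ₂ z) := fun z => by
    have h1 : algebraMap B₁ q₁.ResidueField (φ₁ z) =
        algebraMap p.ResidueField q₁.ResidueField (algebraMap P p.ResidueField z) :=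
      (Ideal.ResidueField.map_algebraMap (J := q₁) p φ₁.toRingHom e₁.symm z).symm
    have h2 : algebraMap B₂ q₂.ResidueField (φ₂ z) =
        algebraMap p.ResidueField q₂.ResidueField (algebraMap P p.ResidueField z) :=
      (Ideal.ResidueField.map_algebraMap (J := q₂) p φ₂.toRingHom e₂.symm z).symm
    show (algebraMap B₁ q₁.ResidueField (φ₁ z)) ⊗ₜ[p.ResidueField] (1 : q₂.ResidueField) =
      (1 : q₁.ResidueField) ⊗ₜ[p.ResidueField] (algebraMap B₂ q₂.ResidueField (φ₂ z))
    rw [h1, h2]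
    exact ((Algebra.TensorProduct.includeLeft : q₁.ResidueField →ₐ[p.ResidueField] L).commutes _).trans
      ((Algebra.TensorProduct.includeRight : q₂.ResidueField →ₐ[p.ResidueField] L).commutes _).symm
  letI : Algebra k L := (i₁.comp (algebraMap k B₁)).toAlgebra
  let j₁ : B₁ →ₐ[k] L := { i₁ with commutes' := fun c => rfl }
  let j₂ : B₂ →ₐ[k] L := { i₂ with
    commutes' := fun c => by
      show i₂ (algebraMap k B₂ c) = i₁ (algebraMap k B₁ c)
      rw [← φ₂.commutes c, ← φ₁.commutes c, hagree] }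
  let S := j₁.range ⊔ j₂.range
  haveI : Algebra.FiniteType k j₁.range := Algebra.FiniteType.of_surjective j₁.rangeRestrict j₁.rangeRestrict_surjective
  haveI : Algebra.FiniteType k j₂.range := Algebra.FiniteType.of_surjective j₂.rangeRestrict j₂.rangeRestrict_surjective
  haveI : Algebra.FiniteType k S := ⟨(Subalgebra.fg_top _).mpr
    (((Subalgebra.fg_top _).mp Algebra.FiniteType.out).sup ((Subalgebra.fg_top _).mp Algebra.FiniteType.out))⟩
  obtain ⟨χ⟩ := exists_point (k := k) S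
  refine ⟨(χ.comp (Subalgebra.inclusion le_sup_left)).comp j₁.rangeRestrict,
    (χ.comp (Subalgebra.inclusion le_sup_right)).comp j₂.rangeRestrict, AlgHom.ext fun z => ?_⟩
  exact congrArg χ (Subtype.ext (hagree z))

end H20Conj
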