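import Mathlib

/-!
# A functional is bounded by a positive semi-definite rational form
-/

set_option autoImplicit false

noncomputable section

open Matrix

namespace H20Conj

theorem exists_clear_denom {r : ℕ} (w : Fin r → ℚ) : ∃ (N : ℕ) (n : Fin r → ℤ), 0 < N ∧ (fun a => (n a : ℚ)) = (N : ℚ) • w := by
  refine ⟨∏ a, (w a).den, fun a => (w a).num * ((∏ a, (w a).den) / (w a).den : ℕ), Finset.prod_pos fun a _ => (w a).den_pos,
    funext fun a => ?_⟩
  have hd : (w a).den ∣ ∏ a, (w a).den := Finset.dvd_prod_of_mem _ (Finset.mem_univ a)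
  obtain ⟨q, hq⟩ := hd
  beta_reduce
  rw [Pi.smul_apply, smul_eq_mul, hq, Nat.mul_div_cancel_left _ (w a).den_pos]
  push_cast
  rw [mul_right_comm, ← Rat.mul_den_eq_num (w a)]
  ring

theorem exists_bound {r : ℕ} (β : (Fin r → ℤ) → (Fin r → ℤ) → ℚ) (f : (Fin r → ℤ) →+ ℚ)
    (hadd : ∀ a b c, β (a + b) c = β a c + β b c) (hsymm : ∀ a b, β a b = β b a) (hpos : ∀ a, 0 ≤ β a a)
    (hrad : ∀ a, β a a = 0 → f a = 0) : ∃ K : ℝ, 0 ≤ K ∧ ∀ a, |((f a : ℚ) : ℝ)| ≤ K * Real.sqrt (β a a) := by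
  classical
  let βh : (Fin r → ℤ) → (Fin r → ℤ) →+ ℚ := fun c => AddMonoidHom.mk' (fun a => β a c) fun a b => hadd a b c
  let M : Matrix (Fin r) (Fin r) ℚ := fun a b => β (Pi.single a 1) (Pi.single b 1)
  have hexp : ∀ (g : (Fin r → ℤ) →+ ℚ) n, g n = ∑ a, (n a : ℚ) * g (Pi.single a 1) := fun g n => by
    conv_lhs => rw [← Finset.univ_sum_single n]
    rw [map_sum]
    refine Finset.sum_congr rfl fun a _ => ?_
    rw [show Pi.single a (n a) = n a • (Pi.single a 1 : Fin r → ℤ) by rw [← Pi.single_smul]; simp, map_zsmul,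
      zsmul_eq_mul]
  have hβ : ∀ n m, β n m = (fun a => (n a : ℚ)) ⬝ᵥ M *ᵥ fun a => (m a : ℚ) := fun n m => by
    show βh m n = _
    rw [hexp]
    refine Finset.sum_congr rfl fun a _ => ?_
    show _ * β (Pi.single a 1) m = (n a : ℚ) * ∑ b, β (Pi.single a 1) (Pi.single b 1) * (m b : ℚ)
    rw [hsymm, show β m (Pi.single a 1) = βh (Pi.single a 1) m from rfl, hexp (βh _)]
    refine congrArg (_ * ·) (Finset.sum_congr rfl fun b _ => ?_)
    show _ * β (Pi.single b 1) (Pi.single a 1) = _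
    rw [hsymm, mul_comm]
  have hM : M.transpose = M := Matrix.ext fun a b => hsymm _ _
  have hsw : ∀ v w : Fin r → ℚ, v ⬝ᵥ M *ᵥ w = w ⬝ᵥ M *ᵥ v := fun v w => by
    rw [dotProduct_comm v, ← Matrix.vecMul_transpose, hM, ← Matrix.dotProduct_mulVec]
  have hpsd : ∀ w : Fin r → ℚ, 0 ≤ w ⬝ᵥ M *ᵥ w := fun w => by
    obtain ⟨N, n, hN, hn⟩ := exists_clear_denom w
    have h := hpos n
    rw [hβ, hn, Matrix.mulVec_smul, dotProduct_smul, smul_dotProduct, smul_eq_mul, smul_eq_mul] at h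
    have hN' : (0 : ℚ) < N := by exact_mod_cast hN
    nlinarith [mul_pos hN' hN']
  let c : Fin r → ℚ := fun a => f (Pi.single a 1)
  obtain ⟨v, hv⟩ : ∃ v, M *ᵥ v = c := by
    by_contra hcon
    have hc : c ∉ LinearMap.range M.mulVecLin := fun ⟨v, hv⟩ => hcon ⟨v, hv⟩
    obtain ⟨φ, hφc, hφ⟩ := Submodule.exists_dual_map_eq_bot_of_notMem hc inferInstance
    let w : Fin r → ℚ := fun a => φ (Pi.single a 1)
    have hφw : ∀ x, φ x = w ⬝ᵥ x := fun x => by
      conv_lhs => rw [pi_eq_sum_univ' x]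
      simp [map_sum, w, dotProduct, mul_comm]
    have hker : w ⬝ᵥ M *ᵥ w = 0 := by
      rw [← hφw]
      exact (Submodule.mem_bot ℚ).mp (hφ ▸ Submodule.mem_map_of_mem (f := φ)
        (LinearMap.mem_range_self M.mulVecLin w))
    obtain ⟨N, n, hN, hn⟩ := exists_clear_denom w
    have hfn : f n = 0 := hrad n (by
      rw [hβ, hn, Matrix.mulVec_smul, dotProduct_smul, smul_dotProduct, hker, smul_zero, smul_zero])
    rw [hexp] at hfn
    have h2 : (N : ℚ) * (w ⬝ᵥ c) = 0 := by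
      rw [← smul_eq_mul, ← smul_dotProduct, ← hn]; exact hfn
    exact hφc (by rw [hφw]; exact (mul_eq_zero.mp h2).resolve_left (by exact_mod_cast hN.ne'))
  refine ⟨Real.sqrt ((v ⬝ᵥ M *ᵥ v : ℚ) : ℝ), Real.sqrt_nonneg _, fun n => ?_⟩
  set u : Fin r → ℚ := fun a => (n a : ℚ)
  have hfn : f n = u ⬝ᵥ M *ᵥ v := by rw [hexp, hv]; rfl
  have hcs : (u ⬝ᵥ M *ᵥ v) ^ 2 ≤ (v ⬝ᵥ M *ᵥ v) * (u ⬝ᵥ M *ᵥ u) := by
    have h : ∀ t : ℚ, 0 ≤ (u ⬝ᵥ M *ᵥ u) * (t * t) + (2 * (u ⬝ᵥ M *ᵥ v)) * t + v ⬝ᵥ M *ᵥ v := fun t => by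
      have := hpsd (t • u + v)
      simp only [Matrix.mulVec_add, Matrix.mulVec_smul, add_dotProduct, dotProduct_add, smul_dotProduct,
        dotProduct_smul, smul_eq_mul, hsw v u] at this
      linarith
    have := discrim_le_zero h
    rw [discrim] at this
    linarith
  rw [hfn, hβ, ← Real.sqrt_mul (by exact_mod_cast hpsd v), ← Real.sqrt_sq_eq_abs]
  exact Real.sqrt_le_sqrt (by exact_mod_cast hcs)

end H20Conj
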