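import Groth.Agent.H20Conj.Zariski
import Groth.Agent.H20Conj.Common

/-!
# A minimal invariant cone: one step of an invariant flag
-/

set_option autoImplicit false

universe u

noncomputable section

open Matrix

namespace H20Conj

variable {k : Type u} [Field k] [IsAlgClosed k] {N : ℕ}

/-- Column vectors. -/
abbrev Vec (k : Type u) (N : ℕ) := Fin N → k

/-- A submodule invariant under a set of matrices. -/
def Stab (W : Submodule k (Vec k N)) (g : GLk k N) : Prop := ∀ w ∈ W, (g : Mat k N) *ᵥ w ∈ W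

omit [IsAlgClosed k] in
theorem mem_of_forall_dual (W : Submodule k (Vec k N)) {x : Vec k N}
    (h : ∀ φ : Vec k N →ₗ[k] k, (∀ w ∈ W, φ w = 0) → φ x = 0) : x ∈ W := by
  by_contra hx
  obtain ⟨φ, hφx, hφW⟩ := Submodule.exists_dual_map_eq_bot_of_notMem hx inferInstance
  exact hφx (h φ fun w hw => (Submodule.mem_bot k).mp (hφW ▸ Submodule.mem_map_of_mem hw))

/-- Weight projections preserve stable submodules. -/
theorem weights_stab {e : kˣ →* GLk k N} {s : Finset ℤ} {P : ℤ → Mat k N}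
    (hP : ∀ t : kˣ, (e t : Mat k N) = ∑ i ∈ s, ((t ^ i : kˣ) : k) • P i) {W : Submodule k (Vec k N)}
    (hW : ∀ t, Stab W (e t)) {i : ℤ} (hi : i ∈ s) {w : Vec k N} (hw : w ∈ W) : P i *ᵥ w ∈ W := by
  refine mem_of_forall_dual W fun φ hφ => laurent_zero (c := fun i => φ (P i *ᵥ w)) (fun t => ?_) i hi
  have := hφ _ (hW t w hw)
  rw [hP, Matrix.sum_mulVec, map_sum] at this
  simpa [Matrix.smul_mulVec, mul_comm] using this

/-- The zero set of an ideal. -/
def zSet (I : Ideal (MvPolynomial (Fin N) k)) : Set (Vec k N) := {z | ∀ f ∈ I, MvPolynomial.eval z f = 0}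

/-- Invariance of a set under scalars, a group and translations by a submodule. -/
def ConeInv (H : Subgroup (GLk k N)) (W : Submodule k (Vec k N)) (Z : Set (Vec k N)) : Prop :=
  ∀ (h : GLk k N), h ∈ H → ∀ (c : kˣ) (w : Vec k N), w ∈ W → ∀ z ∈ Z, (c : k) • ((h : Mat k N) *ᵥ z) + w ∈ Z

theorem eval_aeval_poly (q : Fin N → Polynomial k) (f : MvPolynomial (Fin N) k) (x : k) :
    Polynomial.eval x (MvPolynomial.aeval q f) = MvPolynomial.eval (fun a => Polynomial.eval x (q a)) f := by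
  induction f using MvPolynomial.induction_on with
  | C a => simp
  | add p q hp hq => simp [hp, hq]
  | mul_X p i hp => simp [hp]

/-- A common eigenvector modulo `W` in an invariant closed cone. -/
theorem exists_eigen {H : Subgroup (GLk k N)} {W : Submodule k (Vec k N)} (hW : ∀ h ∈ H, Stab W h)
    {I : Ideal (MvPolynomial (Fin N) k)} (hI : ConeInv H W (zSet I))
    {r : ℕ} (e : Fin r → kˣ →* GLk k N) (he : ∀ j, IsLaurent (e j)) (heH : ∀ j t, e j t ∈ H)
    (hcomm : ∀ i j s t, Commute (e i s : Mat k N) (e j t)) {z₀ : Vec k N} (hz₀ : z₀ ∈ zSet I) (hz₀W : z₀ ∉ W) :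
    ∃ z ∈ zSet I, z ∉ W ∧ ∀ j t, (e j t : Mat k N) *ᵥ z ∈ Submodule.span k {z} ⊔ W := by
  classical
  suffices h : ∀ S : Finset (Fin r),
      ∃ z ∈ zSet I, z ∉ W ∧ ∀ j ∈ S, ∀ t, (e j t : Mat k N) *ᵥ z ∈ Submodule.span k {z} ⊔ W by
    obtain ⟨z, h1, h2, h3⟩ := h Finset.univ
    exact ⟨z, h1, h2, fun j => h3 j (Finset.mem_univ j)⟩
  intro S
  induction S using Finset.induction with
  | empty => exact ⟨z₀, hz₀, hz₀W, by simp⟩
  | insert j S hj ih =>
    obtain ⟨z, hz, hzW, hzS⟩ := ih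
    obtain ⟨s, P, hP, hP1, hPe, hPc⟩ := exists_weights (he j)
    let S₀ := s.filter fun i => P i *ᵥ z ∉ W
    have hne : S₀.Nonempty := by
      by_contra hcon
      rw [Finset.not_nonempty_iff_eq_empty, Finset.filter_eq_empty_iff] at hcon
      refine hzW ?_
      rw [show z = ∑ i ∈ s, P i *ᵥ z by rw [← Matrix.sum_mulVec, hP1, Matrix.one_mulVec]]
      exact Submodule.sum_mem _ fun i hi => not_not.mp (hcon hi)
    obtain ⟨m, hm, hmin⟩ : ∃ m ∈ S₀, ∀ i ∈ S₀, m ≤ i :=
      ⟨S₀.min' hne, S₀.min'_mem hne, fun i hi => S₀.min'_le i hi⟩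
    obtain ⟨hms, hmW⟩ := Finset.mem_filter.mp hm
    refine ⟨P m *ᵥ z, fun f hf => ?_, hmW, fun i hi t => ?_⟩
    · let q : Fin N → Polynomial k := fun a => ∑ i ∈ S₀, Polynomial.C ((P i *ᵥ z) a) * Polynomial.X ^ (i - m).toNat
      have hpoly : MvPolynomial.aeval q f = 0 := by
        refine Polynomial.eq_zero_of_infinite_isRoot _
          (Set.Infinite.mono ?_ (Set.finite_singleton (0 : k)).infinite_compl)
        intro x hx
        let t : kˣ := Units.mk0 x hx
        have hmem : ((t ^ (-m) : kˣ) : k) • ((e j t : Mat k N) *ᵥ z) +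
            -(((t ^ (-m) : kˣ) : k) • ∑ i ∈ s.filter (fun i => ¬ P i *ᵥ z ∉ W), ((t ^ i : kˣ) : k) • (P i *ᵥ z)) ∈ zSet I := by
          refine hI _ (heH j t) _ _ (W.neg_mem (W.smul_mem _ (Submodule.sum_mem _ fun i hi => W.smul_mem _ ?_))) z hz
          exact not_not.mp (Finset.mem_filter.mp hi).2
        show Polynomial.eval x (MvPolynomial.aeval q f) = 0
        refine Eq.trans ?_ (hmem f hf)
        rw [eval_aeval_poly]
        refine congrArg (fun b => MvPolynomial.eval b f) (funext fun a => ?_)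
        rw [hP t, Matrix.sum_mulVec, ← Finset.sum_filter_add_sum_filter_not s (fun i => P i *ᵥ z ∉ W)]
        simp only [Matrix.smul_mulVec, smul_add, add_neg_cancel_right, q,
          Polynomial.eval_finsetSum, Pi.smul_apply, Finset.sum_apply, smul_eq_mul, Finset.mul_sum]
        refine Finset.sum_congr rfl fun i hi => ?_
        have hd : ((i - m).toNat : ℤ) = i - m := Int.toNat_of_nonneg (by have := hmin i hi; omega)
        rw [← mul_assoc, ← Units.val_mul, ← _root_.zpow_add, neg_add_eq_sub, ← hd, zpow_natCast, Units.val_pow_eq_pow_val]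
        rw [Polynomial.eval_mul, Polynomial.eval_C, Polynomial.eval_pow, Polynomial.eval_X, mul_comm]
        rfl
      have h1 := congrArg (Polynomial.eval (0 : k)) hpoly
      rw [Polynomial.eval_zero, eval_aeval_poly] at h1
      refine Eq.trans ?_ h1
      refine congrArg (fun b => MvPolynomial.eval b f) (funext fun a => ?_)
      simp only [q, Polynomial.eval_finsetSum]
      rw [Finset.sum_eq_single_of_mem m hm fun i hi hne => ?_]
      · simp
      · have : (i - m).toNat ≠ 0 := by have := hmin i hi; omega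
        simp [zero_pow this]
    · rcases Finset.mem_insert.mp hi with rfl | hi
      · refine Submodule.mem_sup_left (Submodule.mem_span_singleton.mpr ⟨((t ^ m : kˣ) : k), ?_⟩)
        rw [Matrix.mulVec_mulVec, hPe t m hms, Matrix.smul_mulVec]
      · obtain ⟨x, hx, w, hw, hxw⟩ := Submodule.mem_sup.mp (hzS i hi t)
        obtain ⟨c, rfl⟩ := Submodule.mem_span_singleton.mp hx
        rw [Matrix.mulVec_mulVec, hPc (e i t) (fun u => hcomm i j t u) m hms, ← Matrix.mulVec_mulVec, ← hxw,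
          Matrix.mulVec_add, Matrix.mulVec_smul]
        exact add_mem (Submodule.mem_sup_left (Submodule.smul_mem _ _ (Submodule.mem_span_singleton_self _)))
          (Submodule.mem_sup_right (weights_stab hP (fun u => hW _ (heH j u)) hms hw))

/-- The ideal of the cone of an orbit. -/
def coneIdeal (H : Subgroup (GLk k N)) (W : Submodule k (Vec k N)) (v : Vec k N) :
    Ideal (MvPolynomial (Fin N) k) :=
  ⨅ x : H × kˣ × W, RingHom.ker (MvPolynomial.aeval (fun a => ((x.2.1 : k) • ((x.1 : GLk k N) : Mat k N) *ᵥ v + (x.2.2 : Vec k N)) a) :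
    MvPolynomial (Fin N) k →ₐ[k] k)

theorem mem_coneIdeal {H : Subgroup (GLk k N)} {W : Submodule k (Vec k N)} {v : Vec k N}
    {f : MvPolynomial (Fin N) k} : f ∈ coneIdeal H W v ↔
      ∀ h ∈ H, ∀ (c : kˣ), ∀ w ∈ W, MvPolynomial.eval ((c : k) • ((h : Mat k N) *ᵥ v) + w) f = 0 := by
  simp only [coneIdeal, Ideal.mem_iInf, RingHom.mem_ker]
  refine ⟨fun h g hg c w hw => ?_, fun h x => ?_⟩
  · have := h (⟨g, hg⟩, c, ⟨w, hw⟩)
    simpa [MvPolynomial.aeval_eq_eval₂Hom, MvPolynomial.eval_eq, Matrix.smul_mulVec, MvPolynomial.eval₂_eq] using this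
  · have := h x.1.1 x.1.2 x.2.1 x.2.2 x.2.2.2
    simpa [MvPolynomial.aeval_eq_eval₂Hom, MvPolynomial.eval_eq, Matrix.smul_mulVec, MvPolynomial.eval₂_eq] using this

theorem mem_zSet_self {H : Subgroup (GLk k N)} {W : Submodule k (Vec k N)} (v : Vec k N) :
    v ∈ zSet (coneIdeal H W v) := fun f hf => by
  simpa using mem_coneIdeal.mp hf 1 H.one_mem 1 0 W.zero_mem

theorem coneInv_coneIdeal {H : Subgroup (GLk k N)} {W : Submodule k (Vec k N)} (hW : ∀ h ∈ H, Stab W h)
    (v : Vec k N) : ConeInv H W (zSet (coneIdeal H W v)) := by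
  intro h hh c w hw z hz f hf
  let σ : MvPolynomial (Fin N) k →ₐ[k] MvPolynomial (Fin N) k := MvPolynomial.aeval fun a =>
    ∑ b, MvPolynomial.C ((c : k) * (h : Mat k N) a b) * MvPolynomial.X b + MvPolynomial.C (w a)
  have hσ : ∀ x : Vec k N, MvPolynomial.eval x (σ f) =
      MvPolynomial.eval ((c : k) • ((h : Mat k N) *ᵥ x) + w) f := fun x => by
    show MvPolynomial.aeval x (σ f) = MvPolynomial.aeval _ f
    rw [← AlgHom.comp_apply, MvPolynomial.comp_aeval]
    congr 1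
    refine congrArg _ (funext fun a => ?_)
    simp [Matrix.mulVec, dotProduct, Finset.mul_sum, mul_assoc]
  rw [← hσ]
  refine hz _ (mem_coneIdeal.mpr fun g hg d u hu => ?_)
  rw [hσ]
  have := mem_coneIdeal.mp hf (h * g) (H.mul_mem hh hg) (c * d) ((c : k) • ((h : Mat k N) *ᵥ u) + w)
    (W.add_mem (W.smul_mem _ (hW h hh u hu)) hw)
  refine Eq.trans (congrArg (fun x => MvPolynomial.eval x f) ?_) this
  simp [Matrix.mulVec_add, Matrix.mulVec_smul, Matrix.mulVec_mulVec, smul_add, smul_smul, add_assoc]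

theorem coneIdeal_le {H : Subgroup (GLk k N)} {W : Submodule k (Vec k N)} (hW : ∀ h ∈ H, Stab W h) {v z : Vec k N}
    (hz : z ∈ zSet (coneIdeal H W v)) : coneIdeal H W v ≤ coneIdeal H W z :=
  fun _ hf => mem_coneIdeal.mpr fun h hh c w hw => coneInv_coneIdeal hW v h hh c w hw z hz _ hf

/-- Two vectors with the same cone ideal are conjugate up to scalars and translations. -/
theorem exists_move {H : Subgroup (GLk k N)} (hH : IsZClosed (H : Set (GLk k N))) {W : Submodule k (Vec k N)}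
    (hW : ∀ h ∈ H, Stab W h) {y z : Vec k N} (h : coneIdeal H W y = coneIdeal H W z) :
    ∃ g ∈ H, ∃ c : kˣ, ∃ w ∈ W, (g : Mat k N) *ᵥ y = (c : k) • z + w := by
  classical
  let X := H × kˣ × W
  let gen : (Fin N × Fin N) ⊕ Fin 3 ⊕ Fin N → (X → k) := Sum.elim (fun ij x => ((x.1 : GLk k N) : Mat k N) ij.1 ij.2)
    (Sum.elim ![fun x => (((x.1 : GLk k N) : Mat k N).det)⁻¹, fun x => (x.2.1 : k), fun x => ((x.2.1⁻¹ : kˣ) : k)]
      (fun a x => (x.2.2 : Vec k N) a))
  let B := Algebra.adjoin k (Set.range gen)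
  haveI : Algebra.FiniteType k B := ⟨(Subalgebra.fg_top _).mpr (Subalgebra.fg_def.mpr ⟨_, Set.finite_range gen, rfl⟩)⟩
  haveI : Nontrivial B := ⟨⟨0, 1, fun h0 => by
    have := congrFun (congrArg Subtype.val h0) (1, 1, 0); simp at this⟩⟩
  let el : (Fin N × Fin N) ⊕ Fin 3 ⊕ Fin N → B := fun i => ⟨gen i, Algebra.subset_adjoin ⟨i, rfl⟩⟩
  let GM : Matrix (Fin N) (Fin N) B := Matrix.of fun a b => el (.inl (a, b))
  let pt : Vec k N → Fin N → B := fun v a =>
    el (.inr (.inl 1)) * ∑ b, GM a b * algebraMap k B (v b) + el (.inr (.inr a))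
  have hpt : ∀ v x a, (pt v a : X → k) x = ((x.2.1 : k) • (((x.1 : GLk k N) : Mat k N) *ᵥ v) + (x.2.2 : Vec k N)) a := by
    intro v x a
    simp [pt, el, gen, GM, Matrix.mulVec, dotProduct, Finset.sum_apply]
  have hker : ∀ v, RingHom.ker (MvPolynomial.aeval (pt v) : MvPolynomial (Fin N) k →ₐ[k] B) = coneIdeal H W v := by
    intro v
    ext f
    rw [RingHom.mem_ker, mem_coneIdeal]
    have key : ∀ x : X, ((MvPolynomial.aeval (pt v) f : B) : X → k) x =
        MvPolynomial.eval ((x.2.1 : k) • (((x.1 : GLk k N) : Mat k N) *ᵥ v) + (x.2.2 : Vec k N)) f := fun x => by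
      show ((Pi.evalAlgHom k (fun _ : X => k) x).comp B.val) (MvPolynomial.aeval (pt v) f) = MvPolynomial.aeval _ f
      rw [← AlgHom.comp_apply, MvPolynomial.comp_aeval]
      congr 1
      exact congrArg _ (funext fun a => hpt v x a)
    refine ⟨fun h0 g hg c w hw => ?_, fun h0 => Subtype.ext (funext fun x => ?_)⟩
    · have := key (⟨g, hg⟩, c, ⟨w, hw⟩)
      rw [h0] at this
      exact this.symm
    · rw [key x, h0 _ x.1.2 _ _ x.2.2.2]
      rfl
  obtain ⟨χ₁, χ₂, hχ⟩ := exists_common_point (MvPolynomial.aeval (pt y) : MvPolynomial (Fin N) k →ₐ[k] B)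
    (MvPolynomial.aeval (pt z) : MvPolynomial (Fin N) k →ₐ[k] B) (by rw [hker, hker, h])
  -- points of `B` are points of `X`
  have hB : ∀ χ : B →ₐ[k] k, ∃ x : X, ∀ v a, χ (pt v a) =
      ((x.2.1 : k) • (((x.1 : GLk k N) : Mat k N) *ᵥ v) + (x.2.2 : Vec k N)) a := by
    intro χ
    let M : Mat k N := GM.map χ
    have hdetB : GM.det * el (.inr (.inl 0)) = 1 := Subtype.ext (funext fun x => by
      have e : ((GM.det : B) : X → k) x = ((x.1 : GLk k N) : Mat k N).det := by
        show ((Pi.evalAlgHom k (fun _ : X => k) x).comp B.val) GM.det = _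
        rw [AlgHom.map_det]
        rfl
      show ((GM.det : B) : X → k) x * _ = 1
      rw [e]
      exact mul_inv_cancel₀ (Matrix.isUnit_iff_isUnit_det _ |>.mp (x.1 : GLk k N).isUnit).ne_zero)
    have hM : IsUnit M.det := by
      refine IsUnit.of_mul_eq_one (χ (el (.inr (.inl 0)))) ?_
      rw [show M.det = χ GM.det from (AlgHom.map_det χ GM).symm, ← map_mul, hdetB, map_one]
    let g : GLk k N := ((Matrix.isUnit_iff_isUnit_det M).mpr hM).unit
    have hg : g ∈ H := hH g fun p hp => by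
      have e : evM g p = χ (MvPolynomial.aeval (fun ij : Fin N × Fin N => GM ij.1 ij.2) p) := by
        rw [← AlgHom.comp_apply, MvPolynomial.comp_aeval]; rfl
      rw [e]
      refine (congrArg χ (?_ : _ = (0 : B))).trans (map_zero χ)
      refine Subtype.ext (funext fun x => ?_)
      show ((Pi.evalAlgHom k (fun _ : X => k) x).comp B.val) _ = 0
      rw [← AlgHom.comp_apply, MvPolynomial.comp_aeval]
      exact mem_vIdeal.mp hp x.1.1 x.1.2
    have hc : χ (el (.inr (.inl 1))) * χ (el (.inr (.inl 2))) = 1 := by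
      rw [← map_mul, show el (.inr (.inl 1)) * el (.inr (.inl 2)) = 1 from Subtype.ext (funext fun x => by
        simp [el, gen]), map_one]
    let w : Vec k N := fun a => χ (el (.inr (.inr a)))
    have hw : w ∈ W := mem_of_forall_dual W fun φ hφ => by
      have e : φ w = χ (∑ a, φ (Pi.single a 1) • el (.inr (.inr a))) := by
        conv_lhs => rw [pi_eq_sum_univ' w]
        simp [map_sum, w, mul_comm]
      rw [e]
      refine (congrArg χ (?_ : _ = (0 : B))).trans (map_zero χ)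
      refine Subtype.ext (funext fun x => ?_)
      have h2 := hφ _ x.2.2.2
      rw [pi_eq_sum_univ' (x.2.2 : Vec k N)] at h2
      simpa [el, gen, map_sum, Finset.sum_apply, mul_comm] using h2
    refine ⟨(⟨g, hg⟩, Units.mkOfMulEqOne _ _ hc, ⟨w, hw⟩), fun v a => ?_⟩
    simp [pt, Matrix.mulVec, dotProduct, w, g, M]
  obtain ⟨x₁, h₁⟩ := hB χ₁
  obtain ⟨x₂, h₂⟩ := hB χ₂
  obtain ⟨⟨g₁, hg₁⟩, c₁, ⟨w₁, hw₁⟩⟩ := x₁
  obtain ⟨⟨g₂, hg₂⟩, c₂, ⟨w₂, hw₂⟩⟩ := x₂
  have e : (c₁ : k) • ((g₁ : Mat k N) *ᵥ y) + w₁ = (c₂ : k) • ((g₂ : Mat k N) *ᵥ z) + w₂ := funext fun a => by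
    have := AlgHom.congr_fun hχ (MvPolynomial.X a)
    simp only [AlgHom.comp_apply, MvPolynomial.aeval_X] at this
    rw [h₁, h₂] at this
    exact this
  refine ⟨g₂⁻¹ * g₁, H.mul_mem (H.inv_mem hg₂) hg₁, c₁⁻¹ * c₂,
    ((c₁⁻¹ : kˣ) : k) • (((g₂⁻¹ : GLk k N) : Mat k N) *ᵥ (w₂ - w₁)),
    W.smul_mem _ (hW _ (H.inv_mem hg₂) _ (W.sub_mem hw₂ hw₁)), ?_⟩
  have e' := congrArg (fun u => ((c₁⁻¹ : kˣ) : k) • (((g₂⁻¹ : GLk k N) : Mat k N) *ᵥ (u - w₁))) e
  simp only [add_sub_cancel_right, Matrix.mulVec_smul, Matrix.mulVec_mulVec, smul_smul, ← Units.val_mul,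
    inv_mul_cancel, Units.val_one, one_smul, add_sub_assoc, Matrix.mulVec_add, smul_add, Matrix.one_mulVec] at e'
  exact e'

/-- **One step**: a larger submodule stable under the first family and a conjugate of the second. -/
theorem exists_step {H : Subgroup (GLk k N)} (hH : IsZClosed (H : Set (GLk k N))) {W : Submodule k (Vec k N)}
    (hW : ∀ h ∈ H, Stab W h) (hne : W ≠ ⊤) {r r' : ℕ} (e : Fin r → kˣ →* GLk k N) (f : Fin r' → kˣ →* GLk k N)
    (he : ∀ j, IsLaurent (e j)) (hf : ∀ j, IsLaurent (f j)) (heH : ∀ j t, e j t ∈ H) (hfH : ∀ j t, f j t ∈ H)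
    (hec : ∀ i j s t, Commute (e i s : Mat k N) (e j t)) (hfc : ∀ i j s t, Commute (f i s : Mat k N) (f j t)) :
    ∃ z : Vec k N, z ∉ W ∧ ∃ h ∈ H,
      (∀ j t, Stab (Submodule.span k {z} ⊔ W) (e j t)) ∧
        ∀ j t, Stab (Submodule.span k {z} ⊔ W) (h * f j t * h⁻¹) := by
  obtain ⟨v₀, -, hv₀⟩ := Set.not_subset.mp (show ¬ ((⊤ : Submodule k (Vec k N)) : Set (Vec k N)) ⊆ W from
    fun h => hne (top_le_iff.mp h))
  obtain ⟨I, ⟨v, hvW, rfl⟩, hmax⟩ := set_has_maximal_iff_noetherian.mpr inferInstance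
    {I : Submodule (MvPolynomial (Fin N) k) (MvPolynomial (Fin N) k) | ∃ v, v ∉ W ∧ coneIdeal H W v = I}
    ⟨_, v₀, hv₀, rfl⟩
  have heq : ∀ z ∈ zSet (coneIdeal H W v), z ∉ W → coneIdeal H W z = coneIdeal H W v := fun z hz hzW =>
    ((eq_or_lt_of_le (coneIdeal_le hW hz)).resolve_right (hmax _ ⟨z, hzW, rfl⟩)).symm
  obtain ⟨z, hz, hzW, hze⟩ := exists_eigen hW (coneInv_coneIdeal hW v) e he heH hec (mem_zSet_self v) hvW
  obtain ⟨y, hy, hyW, hyf⟩ := exists_eigen hW (coneInv_coneIdeal hW v) f hf hfH hfc (mem_zSet_self v) hvW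
  obtain ⟨h, hh, c, w, hw, hhy⟩ := exists_move hH hW ((heq y hy hyW).trans (heq z hz hzW).symm)
  refine ⟨z, hzW, h, hh, ?_, ?_⟩
  · intro j t x hx
    obtain ⟨x₁, hx₁, x₂, hx₂, rfl⟩ := Submodule.mem_sup.mp hx
    obtain ⟨a, rfl⟩ := Submodule.mem_span_singleton.mp hx₁
    rw [Matrix.mulVec_add, Matrix.mulVec_smul]
    exact add_mem (Submodule.smul_mem _ _ (hze j t)) (Submodule.mem_sup_right (hW _ (heH j t) _ hx₂))
  · intro j t
    have hz' : ((c : k) • z) = (h : Mat k N) *ᵥ y - w := by rw [hhy, add_sub_cancel_right]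
    have hstW : Stab W (h * f j t * h⁻¹) := hW _ (H.mul_mem (H.mul_mem hh (hfH j t)) (H.inv_mem hh))
    have hU : ∀ x ∈ Submodule.span k {y} ⊔ W, (h : Mat k N) *ᵥ x ∈ Submodule.span k {z} ⊔ W := fun x hx => by
      obtain ⟨x₁, hx₁, x₂, hx₂, rfl⟩ := Submodule.mem_sup.mp hx
      obtain ⟨a, rfl⟩ := Submodule.mem_span_singleton.mp hx₁
      rw [Matrix.mulVec_add, Matrix.mulVec_smul, hhy]
      exact add_mem (Submodule.smul_mem _ _ (add_mem (Submodule.mem_sup_left (Submodule.smul_mem _ _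
        (Submodule.mem_span_singleton_self z))) (Submodule.mem_sup_right hw))) (Submodule.mem_sup_right (hW h hh _ hx₂))
    intro x hx
    obtain ⟨x₁, hx₁, x₂, hx₂, rfl⟩ := Submodule.mem_sup.mp hx
    obtain ⟨a, rfl⟩ := Submodule.mem_span_singleton.mp hx₁
    rw [Matrix.mulVec_add, Matrix.mulVec_smul]
    refine add_mem (Submodule.smul_mem _ _ ?_) (Submodule.mem_sup_right (hstW _ hx₂))
    refine (Submodule.smul_mem_iff _ c.ne_zero).mp ?_
    rw [← Matrix.mulVec_smul, hz', Matrix.mulVec_sub]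
    refine sub_mem ?_ (Submodule.mem_sup_right (hstW _ hw))
    rw [Matrix.mulVec_mulVec, Units.val_mul, Units.val_mul, mul_assoc, Units.inv_mul, mul_one,
      ← Matrix.mulVec_mulVec]
    exact hU _ (hyf j t)

end H20Conj
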