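import Groth.Agent.H21Diag.TorusQuot
import Groth.Prelude.Def_AGF

/-!
# Maximal tori over an algebraically closed field
-/

set_option autoImplicit false
set_option backward.isDefEq.respectTransparency false

universe u

open CategoryTheory CategoryTheory.Limits MonoidalCategory CartesianMonoidalCategory MonObj AlgebraicGeometry
open Groth.Agent.H21Diag

noncomputable section

namespace H20Conj

theorem isTorus_bc_of_isIso {S S₁ : Scheme.{u}} (g : S₁ ⟶ S) [IsIso g] {T : Over S} [GrpObj T] (hT : Red.IsTorus T) :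
    Red.IsTorus (Red.bc g T) := by
  obtain ⟨S', f, hflat, hsurj, hqc, hsplit⟩ := hT
  refine ⟨S', f ≫ inv g, inferInstance, inferInstance, fun V hV => ?_, fun s' => ?_⟩
  · obtain ⟨W, hW, himg⟩ := hqc (inv g ⁻¹ᵁ V) (hV.preimage _)
    refine ⟨W, hW, ?_⟩
    rw [Scheme.Hom.comp_base, TopCat.coe_comp, Set.image_comp, himg]
    exact Set.image_preimage_eq _ (inv g).surjective
  · obtain ⟨U, hU, r, hr⟩ := hsplit s'
    obtain ⟨e⟩ := hr
    exact ⟨U, hU, r, ⟨(bcCompIso (U.ι ≫ f ≫ inv g) g T).symm ≪≫
      bcCongrIso (by rw [Category.assoc, Category.assoc, IsIso.inv_hom_id, Category.comp_id]) T ≪≫ e⟩⟩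

variable {k : Type u} [Field k] [IsAlgClosed k]

theorem isIso_geomPt (s : ↥(Spec (CommRingCat.of k))) : IsIso (Red.geomPt s) := by
  haveI : Subsingleton ↥(Spec (CommRingCat.of k)) := inferInstanceAs (Subsingleton (PrimeSpectrum k))
  let φ₀ := (Spec (CommRingCat.of k)).fromSpecResidueField s
  haveI : Surjective φ₀ := ⟨fun x => ⟨IsLocalRing.closedPoint _, Subsingleton.elim _ _⟩⟩
  haveI : IsClosedImmersion φ₀ := IsClosedImmersion.of_isPreimmersion φ₀ (by
    rw [Scheme.range_fromSpecResidueField]; exact Set.Finite.isClosed (Set.finite_singleton s) |>.mono (fun _ h => h))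
  haveI : IsIso φ₀ := isIso_of_isClosedImmersion_of_surjective φ₀
  obtain ⟨φ, hφ⟩ := Spec.map_surjective φ₀
  haveI : IsIso φ := by
    have h : IsIso (Spec.map φ) := hφ ▸ inferInstance
    haveI : IsIso (Scheme.Spec.map φ.op) := h
    exact (isIso_op_iff φ).mp (isIso_of_reflects_iso φ.op Scheme.Spec)
  haveI : IsAlgClosed ((Spec (CommRingCat.of k)).residueField s) :=
    IsAlgClosed.of_ringEquiv k _ (asIso φ).commRingCatIsoToRingEquiv
  have hb : Function.Bijective (algebraMap ((Spec (CommRingCat.of k)).residueField s)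
      (AlgebraicClosure ((Spec (CommRingCat.of k)).residueField s))) := IsAlgClosed.algebraMap_bijective_of_isIntegral
  haveI : IsIso (CommRingCat.ofHom (algebraMap ((Spec (CommRingCat.of k)).residueField s)
      (AlgebraicClosure ((Spec (CommRingCat.of k)).residueField s)))) := (ConcreteCategory.isIso_iff_bijective _).mpr hb
  unfold Red.geomPt
  infer_instance

/-- A maximal torus is maximal among the subtori. -/
theorem isMaxTorus_of_isMaximalTorus {G T : Over (Spec (CommRingCat.of k))} [GrpObj G] [GrpObj T] {i : T ⟶ G}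
    (hi : Red.IsMaximalTorus i) : AGF.IsMaxTorus i := by
  obtain ⟨hm, hmono, hT, hmax⟩ := hi
  refine ⟨hm, hmono, hT, fun T' _ j _ _ f hT' hf => ?_⟩
  let s : ↥(Spec (CommRingCat.of k)) := (IsLocalRing.closedPoint k : PrimeSpectrum k)
  haveI := isIso_geomPt s
  let v := Red.geomPt s
  have hiso : IsIso ((Over.pullback v).map f) :=
    hmax s ((Over.pullback v).obj T') ((Over.pullback v).map j) ((Over.pullback v).map f)
      (isTorus_bc_of_isIso v hT') (by rw [← Functor.map_comp, hf])
  haveI : IsIso ((Over.pullback v).map f).left := inferInstanceAs (IsIso ((Over.forget _).map ((Over.pullback v).map f)))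
  have h1 : ((Over.pullback v).map f).left ≫ pullback.fst T'.hom v = pullback.fst T.hom v ≫ f.left :=
    pullback.lift_fst _ _ _
  haveI : IsIso (pullback.fst T.hom v ≫ f.left) := h1 ▸ inferInstance
  haveI : IsIso f.left := IsIso.of_isIso_comp_left (pullback.fst T.hom v) f.left
  haveI : IsIso ((Over.forget _).map f) := this
  exact isIso_of_reflects_iso f (Over.forget _)

end H20Conj
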