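import Groth.Agent.H20Conj.Factor

/-!
# The lattice of cocharacters of a torus
-/

set_option autoImplicit false
set_option linter.style.haveILetI false
set_option backward.isDefEq.respectTransparency false

universe u

open CategoryTheory CategoryTheory.Limits MonoidalCategory CartesianMonoidalCategory MonObj AlgebraicGeometry
open Groth.Agent.H27Witt H20Mu

noncomputable section

namespace H20Conj

variable {k : Type u} [Field k]

/-- The powers of the identity of `G_m`. -/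
def unitHom {P : Over (Sk k)} : (P ⟶ Red.Gm (Sk k)) →* (Γ(P.left, ⊤))ˣ where
  toFun := GmPts.unitOfPt
  map_one' := GmPts.unitOfPt_one
  map_mul' := GmPts.unitOfPt_mul

theorem eq_zpow_id [Infinite k] (x : Red.Gm (Sk k) ⟶ Red.Gm (Sk k)) [IsMonHom x] :
    ∃ n : ℤ, x = (𝟙 (Red.Gm (Sk k))) ^ n := by
  obtain ⟨n, hn⟩ := exists_eq_zpow (Fn.pull x ((zFn : (Fn (Red.Gm (Sk k)))ˣ) : Fn (Red.Gm (Sk k))))
    (by
      rw [val_pull, MonObj.one_comp]
      exact congrArg Units.val (par_one (k := k)))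
    (fun u u' => by
      rw [val_pull, val_pull, val_pull, MonObj.mul_comp]
      exact congrArg Units.val (par_mul (u ≫ x) (u' ≫ x)))
  refine ⟨n, gm_pt_ext ?_⟩
  have h1 : GmPts.unitOfPt ((𝟙 (Red.Gm (Sk k))) ^ n) = (zFn : (Fn (Red.Gm (Sk k)))ˣ) ^ n :=
    map_zpow (unitHom (P := Red.Gm (Sk k))) _ n
  rw [h1]
  refine Eq.trans ?_ hn
  exact (congrArg Units.val (pull_zFn x)).symm

theorem hom_of_mul {T : Over (Sk k)} [GrpObj T] (φ : Red.Gm (Sk k) ⟶ T)
    (h : ∀ {P : Over (Sk k)} (a b : P ⟶ Red.Gm (Sk k)), (a * b) ≫ φ = (a ≫ φ) * (b ≫ φ)) : IsMonHom φ :=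
  @Groth.Agent.H21Diag.isMonHom_of_mul (Over (Sk k)) _ _ (Red.Gm (Sk k)) T (Red.grpObj_bc _ _) _ φ h

/-- The subgroup of homomorphisms. -/
def homSub {T : Over (Sk k)} [GrpObj T] (hcomm : ∀ {P : Over (Sk k)} (a b : P ⟶ T), a * b = b * a) :
    Subgroup (Red.Gm (Sk k) ⟶ T) where
  carrier := {x | IsMonHom x}
  one_mem' := hom_of_mul _ fun a b => by
    rw [MonObj.comp_one, MonObj.comp_one, MonObj.comp_one, _root_.mul_one]
  mul_mem' := fun {x y} hx hy => hom_of_mul _ fun a b => by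
    haveI : IsMonHom x := hx
    haveI : IsMonHom y := hy
    rw [MonObj.comp_mul, MonObj.comp_mul, MonObj.comp_mul, MonObj.mul_comp, MonObj.mul_comp]
    have := hcomm (b ≫ x) (a ≫ y)
    rw [_root_.mul_assoc, ← _root_.mul_assoc (b ≫ x), this, _root_.mul_assoc, _root_.mul_assoc]
  inv_mem' := fun {x} hx => hom_of_mul _ fun a b => by
    haveI : IsMonHom x := hx
    rw [GrpObj.comp_inv, GrpObj.comp_inv, GrpObj.comp_inv, MonObj.mul_comp, mul_inv_rev]
    exact hcomm _ _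

theorem zpow_id_comp {T : Over (Sk k)} [GrpObj T] (e : Red.Gm (Sk k) ⟶ T) [IsMonHom e] (n : ℤ) :
    ((𝟙 (Red.Gm (Sk k))) ^ n) ≫ e = e ^ n :=
  (map_zpow ({ toFun := fun m => m ≫ e, map_one' := MonObj.one_comp e, map_mul' := fun p q => MonObj.mul_comp p q e } :
    (Red.Gm (Sk k) ⟶ Red.Gm (Sk k)) →* (Red.Gm (Sk k) ⟶ T)) (𝟙 _) n).trans
    (congrArg (· ^ n) (Category.id_comp e))

theorem prod_ofFn_comp {T : Over (Sk k)} [GrpObj T] (d : Red.Gm (Sk k) ⟶ T) {r : ℕ} (f : Fin r → (T ⟶ T)) :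
    d ≫ (List.ofFn f).prod = (List.ofFn fun a => d ≫ f a).prod := by
  induction r with
  | zero => simp [MonObj.comp_one]
  | succ r ih => rw [List.ofFn_succ, List.ofFn_succ, List.prod_cons, List.prod_cons, MonObj.comp_mul, ih]

set_option maxHeartbeats 2000000 in
/-- **Cocharacters form a finitely generated group.** -/
theorem exists_lattice [IsAlgClosed k] (T : Over (Sk k)) [GrpObj T] (hT : Red.IsTorus T) :
    ∃ (r : ℕ) (W : (Fin r → ℤ) → (Red.Gm (Sk k) ⟶ T)), (∀ n, IsMonHom (W n)) ∧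
      (∀ n m, W (n + m) = W n * W m) ∧ W 0 = 1 ∧ ∀ d : Red.Gm (Sk k) ⟶ T, IsMonHom d → ∃ n, W n = d := by
  obtain ⟨r, e, co, he, hco, hprod, hcomm⟩ := exists_cochars T hT
  letI : CommGroup (Red.Gm (Sk k) ⟶ T) := { (inferInstance : Group (Red.Gm (Sk k) ⟶ T)) with mul_comm := hcomm }
  refine ⟨r, fun n => ∏ a, e a ^ n a, fun n => (homSub hcomm).prod_mem fun a _ => (homSub hcomm).zpow_mem (he a) _,
    fun n m => by simp [zpow_add, Finset.prod_mul_distrib], by simp, fun d hd => ?_⟩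
  haveI := hd
  have hx : ∀ a, IsMonHom (d ≫ co a) := fun a => haveI := hco a; inferInstance
  choose n hn using fun a => haveI := hx a; eq_zpow_id (d ≫ co a)
  refine ⟨n, Eq.symm ?_⟩
  have h1 := prod_ofFn_comp d (fun a => co a ≫ e a)
  rw [hprod, Category.comp_id, List.prod_ofFn] at h1
  refine h1.trans (Finset.prod_congr rfl fun a _ => ?_)
  haveI := he a
  rw [← Category.assoc, hn a]
  exact zpow_id_comp (e a) (n a)

end H20Conj
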