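import Groth.Agent.H20Conj.Cone

/-!
# Unipotent filtration of a closed subgroup preserving a flag; vanishing of `H¹`
-/

set_option autoImplicit false

universe u

noncomputable section

open Matrix

namespace H20Conj

variable {k : Type u} [Field k] {N : ℕ}

/-- A flag preserved by `H` with scalar graded action. -/
structure Flag (H : Subgroup (GLk k N)) where
  W : ℕ → Submodule k (Vec k N)
  len : ℕ
  mono : Monotone W
  zero : W 0 = ⊥
  top : W len = ⊤
  scalar : ∀ h ∈ H, ∀ i, ∃ a : k, ∀ x ∈ W (i + 1), (h : Mat k N) *ᵥ x - a • x ∈ W i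

variable {H : Subgroup (GLk k N)} (F : Flag H)

theorem Flag.stab {h : GLk k N} (hh : h ∈ H) : ∀ i, Stab (F.W i) h
  | 0 => fun x hx => by
      rw [F.zero, Submodule.mem_bot] at hx
      simp [hx]
  | i + 1 => fun x hx => by
      obtain ⟨a, ha⟩ := F.scalar h hh i
      rw [← sub_add_cancel ((h : Mat k N) *ᵥ x) (a • x)]
      exact add_mem (F.mono (Nat.le_succ i) (ha x hx)) (Submodule.smul_mem _ _ hx)

/-- Endomorphisms lowering the flag by `d`. -/
def Flag.E (d : ℕ) : Submodule k (Mat k N) where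
  carrier := {M | ∀ i, ∀ x ∈ F.W i, M *ᵥ x ∈ F.W (i - d)}
  add_mem' ha hb i x hx := by rw [Matrix.add_mulVec]; exact add_mem (ha i x hx) (hb i x hx)
  zero_mem' i x _ := by rw [Matrix.zero_mulVec]; exact zero_mem _
  smul_mem' c M hM i x hx := by rw [Matrix.smul_mulVec]; exact Submodule.smul_mem _ c (hM i x hx)

theorem Flag.E_mul {a b : ℕ} {A B : Mat k N} (hA : A ∈ F.E a) (hB : B ∈ F.E b) : A * B ∈ F.E (a + b) :=
  fun i x hx => by
    rw [← Matrix.mulVec_mulVec, show i - (a + b) = i - b - a by omega]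
    exact hA _ _ (hB i x hx)

theorem Flag.E_mono {a b : ℕ} (h : a ≤ b) : F.E b ≤ F.E a :=
  fun _ hM i x hx => F.mono (by omega) (hM i x hx)

theorem Flag.E_len {d : ℕ} (h : F.len ≤ d) {M : Mat k N} (hM : M ∈ F.E d) : M = 0 :=
  Matrix.ext_iff_mulVec.mpr fun x => by
    have := hM F.len x (by rw [F.top]; trivial)
    rw [show F.len - d = 0 by omega, F.zero, Submodule.mem_bot] at this
    rw [this, Matrix.zero_mulVec]

theorem Flag.E_conj {d : ℕ} {g : GLk k N} (hg : g ∈ H) {M : Mat k N} (hM : M ∈ F.E d) :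
    (g : Mat k N) * M * ((g⁻¹ : GLk k N) : Mat k N) ∈ F.E d := fun i x hx => by
  rw [← Matrix.mulVec_mulVec, ← Matrix.mulVec_mulVec]
  exact F.stab hg _ _ (hM i _ (F.stab (H.inv_mem hg) i x hx))

theorem Flag.mem_mul_left {d : ℕ} {g : GLk k N} (hg : g ∈ H) {M : Mat k N} (hM : M ∈ F.E d) :
    (g : Mat k N) * M ∈ F.E d := fun i x hx => by
  rw [← Matrix.mulVec_mulVec]
  exact F.stab hg _ _ (hM i x hx)

/-- The unipotent filtration. -/
def Flag.U (d : ℕ) : Subgroup (GLk k N) where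
  carrier := {g | g ∈ H ∧ (g : Mat k N) - 1 ∈ F.E d}
  one_mem' := ⟨H.one_mem, by simp⟩
  mul_mem' := fun {a b} ha hb => ⟨H.mul_mem ha.1 hb.1, by
    have : ((a * b : GLk k N) : Mat k N) - 1 = ((a : Mat k N) - 1) + (a : Mat k N) * ((b : Mat k N) - 1) := by
      rw [Units.val_mul, mul_sub, mul_one]; abel
    rw [this]
    exact add_mem ha.2 (F.mem_mul_left ha.1 hb.2)⟩
  inv_mem' := fun {a} ha => ⟨H.inv_mem ha.1, by
    have : ((a⁻¹ : GLk k N) : Mat k N) - 1 = -(((a⁻¹ : GLk k N) : Mat k N) * ((a : Mat k N) - 1)) := by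
      rw [mul_sub, mul_one, Units.inv_mul]; abel
    rw [this]
    exact neg_mem (F.mem_mul_left (H.inv_mem ha.1) ha.2)⟩

theorem Flag.mem_U {d : ℕ} {g : GLk k N} : g ∈ F.U d ↔ g ∈ H ∧ (g : Mat k N) - 1 ∈ F.E d := Iff.rfl

theorem Flag.U_mono {a b : ℕ} (h : a ≤ b) : F.U b ≤ F.U a := fun _ hg => ⟨hg.1, F.E_mono h hg.2⟩

theorem Flag.isZClosed_U (hH : IsZClosed (H : Set (GLk k N))) (d : ℕ) : IsZClosed (F.U d : Set (GLk k N)) := by
  let ι := Σ' (i : ℕ) (x : F.W i) (φ : Vec k N →ₗ[k] k), ∀ w ∈ F.W (i - d), φ w = 0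
  let ψ : ι → Mat k N →ₗ[k] k := fun s =>
    { toFun := fun M => s.2.2.1 (M *ᵥ (s.2.1 : Vec k N))
      map_add' := fun A B => by rw [Matrix.add_mulVec, map_add]
      map_smul' := fun c A => by rw [Matrix.smul_mulVec, map_smul]; rfl }
  have hset : (F.U d : Set (GLk k N)) =
      (H : Set (GLk k N)) ∩ {g | ∀ s : ι, ψ s g = s.2.2.1 (s.2.1 : Vec k N)} := Set.ext fun g => by
    refine ⟨fun hg => ⟨hg.1, fun s => ?_⟩, fun hg => ⟨hg.1, fun i x hx => mem_of_forall_dual _ fun φ hφ => ?_⟩⟩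
    · have h := s.2.2.2 _ (hg.2 s.1 _ s.2.1.2)
      rw [Matrix.sub_mulVec, Matrix.one_mulVec, map_sub, sub_eq_zero] at h
      exact h
    · rw [Matrix.sub_mulVec, Matrix.one_mulVec, map_sub, sub_eq_zero]
      exact hg.2 ⟨i, ⟨x, hx⟩, φ, hφ⟩
  rw [hset]
  exact isZClosed_inter hH (isZClosed_affine _ _)

theorem Flag.U_conj {d : ℕ} {g h : GLk k N} (hg : g ∈ H) (hh : h ∈ F.U d) : g * h * g⁻¹ ∈ F.U d :=
  ⟨H.mul_mem (H.mul_mem hg hh.1) (H.inv_mem hg), by
    have : ((g * h * g⁻¹ : GLk k N) : Mat k N) - 1 = (g : Mat k N) * ((h : Mat k N) - 1) * ((g⁻¹ : GLk k N) : Mat k N) := by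
      rw [mul_sub, sub_mul, mul_one, Units.mul_inv, Units.val_mul, Units.val_mul]
    rw [this]
    exact F.E_conj hg hh.2⟩

/-- Commutators are unipotent. -/
theorem Flag.commutator_mem {g h : GLk k N} (hg : g ∈ H) (hh : h ∈ H) : g * h * g⁻¹ * h⁻¹ ∈ F.U 1 := by
  refine ⟨H.mul_mem (H.mul_mem (H.mul_mem hg hh) (H.inv_mem hg)) (H.inv_mem hh), fun i x hx => ?_⟩
  cases i with
  | zero =>
    rw [F.zero, Submodule.mem_bot] at hx
    simp [hx]
  | succ i =>
    obtain ⟨a, ha⟩ := F.scalar g hg i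
    obtain ⟨b, hb⟩ := F.scalar h hh i
    let y := ((g⁻¹ * h⁻¹ : GLk k N) : Mat k N) *ᵥ x
    have hy : y ∈ F.W (i + 1) := F.stab (H.mul_mem (H.inv_mem hg) (H.inv_mem hh)) _ _ hx
    have e1 : ((g * h * g⁻¹ * h⁻¹ : GLk k N) : Mat k N) *ᵥ x = ((g * h : GLk k N) : Mat k N) *ᵥ y := by
      simp only [y, Matrix.mulVec_mulVec, ← Units.val_mul, mul_assoc]
    have e2 : x = ((h * g : GLk k N) : Mat k N) *ᵥ y := by
      simp only [y, Matrix.mulVec_mulVec, ← Units.val_mul]
      rw [show h * g * (g⁻¹ * h⁻¹) = 1 by group]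
      simp
    rw [Nat.add_sub_cancel, Matrix.sub_mulVec, Matrix.one_mulVec, e1]
    nth_rewrite 1 [e2]
    simp only [Units.val_mul, ← Matrix.mulVec_mulVec]
    have k1 : (g : Mat k N) *ᵥ ((h : Mat k N) *ᵥ y) - (a * b) • y ∈ F.W i := by
      have := add_mem (ha _ (F.stab hh (i + 1) y hy)) (Submodule.smul_mem _ a (hb y hy))
      simpa [smul_sub, smul_smul] using this
    have k2 : (h : Mat k N) *ᵥ ((g : Mat k N) *ᵥ y) - (a * b) • y ∈ F.W i := by
      have := add_mem (hb _ (F.stab hg (i + 1) y hy)) (Submodule.smul_mem _ b (ha y hy))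
      simpa [smul_sub, smul_smul, mul_comm b a] using this
    simpa using sub_mem k1 k2

theorem pow_eq_sum_choose {D : Mat k N} {L : ℕ} (hD : D ^ L = 0) (m : ℕ) :
    (1 + D) ^ m = ∑ i ∈ Finset.range L, (m.choose i : k) • D ^ i := by
  have h1 : ∑ i ∈ Finset.range L, (m.choose i : k) • D ^ i = ∑ i ∈ Finset.range (L + (m + 1)), (m.choose i : k) • D ^ i := by
    refine Finset.sum_subset (by intro i hi; simp at hi ⊢; omega) fun i _ hi => ?_
    rw [pow_eq_zero_of_le (by simpa using hi) hD, smul_zero]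
  rw [h1, add_comm (1 : Mat k N) D, (Commute.one_right D).add_pow]
  refine (Finset.sum_subset (by intro i hi; simp at hi ⊢; omega) fun i _ hi => ?_).trans
    (Finset.sum_congr rfl fun i _ => ?_)
  · rw [Nat.choose_eq_zero_of_lt (by simpa using hi)]
    simp
  · rw [one_pow, mul_one, Nat.cast_smul_eq_nsmul, nsmul_eq_mul, (Nat.cast_commute _ _).eq]

/-- Roots of unipotent elements inside closed subgroups. -/
theorem exists_root {u : GLk k N} {L : ℕ} (hL : ((u : Mat k N) - 1) ^ L = 0) {n : ℕ} (hn : (n : k) ≠ 0) :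
    ∃ r : GLk k N, r ^ n = u ∧ ∀ K : Subgroup (GLk k N), IsZClosed (K : Set (GLk k N)) → u ∈ K → r ∈ K := by
  obtain ⟨p, hp⟩ := CharP.exists k
  rcases CharP.char_is_prime_or_zero k p with hprime | rfl
  · haveI := Fact.mk hprime
    rcases Nat.eq_zero_or_pos N with rfl | hN
    · exact ⟨1, Subsingleton.elim _ _, fun K _ _ => K.one_mem⟩
    haveI : Nonempty (Fin N) := ⟨⟨0, hN⟩⟩
    have hu : u ^ (p ^ L) = 1 := by
      refine Units.ext ?_
      rw [Units.val_pow_eq_pow_val, Units.val_one]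
      have h1 : ((u : Mat k N) - 1) ^ (p ^ L) = 0 := pow_eq_zero_of_le (Nat.lt_pow_self hprime.one_lt).le hL
      rw [sub_pow_char_pow_of_commute p L (Commute.one_right _), one_pow, sub_eq_zero] at h1
      exact h1
    have hcop : Nat.Coprime n (p ^ L) := by
      refine Nat.Coprime.pow_right _ ((hprime.coprime_iff_not_dvd.mpr fun h => hn ?_).symm)
      exact (CharP.cast_eq_zero_iff k p n).mpr h
    refine ⟨u ^ (Nat.gcdA n (p ^ L)), ?_, fun K _ hu' => K.zpow_mem hu' _⟩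
    have hb := Nat.gcd_eq_gcd_ab n (p ^ L)
    rw [hcop] at hb
    rw [← zpow_natCast, ← _root_.zpow_mul, mul_comm, show (n : ℤ) * Nat.gcdA n (p ^ L) = 1 - ((p ^ L : ℕ) : ℤ) * Nat.gcdB n (p ^ L) by push_cast at hb ⊢; omega,
      _root_.zpow_sub, zpow_one, _root_.zpow_mul, zpow_natCast, hu, _root_.one_zpow, inv_one, mul_one]
  · haveI := CharP.charP_to_charZero k
    let E : Matrix (Fin N) (Fin N) (Polynomial k) := ∑ i ∈ Finset.range L,
      ((Polynomial.C ((i.factorial : k)⁻¹)) * descPochhammer k i) • (((u : Mat k N) - 1) ^ i).map Polynomial.C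
    have hE : ∀ m : ℕ, E.map (Polynomial.eval (m : k)) = ((u ^ m : GLk k N) : Mat k N) := fun m => by
      rw [Units.val_pow_eq_pow_val, show (u : Mat k N) = 1 + ((u : Mat k N) - 1) by abel, pow_eq_sum_choose hL]
      ext a b
      simp only [E, Matrix.map_apply, Matrix.sum_apply, Matrix.smul_apply, Polynomial.eval_finsetSum, smul_eq_mul,
        Polynomial.eval_mul, Polynomial.eval_C, descPochhammer_eval_eq_descFactorial,
        Nat.descFactorial_eq_factorial_mul_choose, Nat.cast_mul]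
      refine Finset.sum_congr rfl fun i _ => ?_
      rw [← mul_assoc ((i.factorial : k)⁻¹), inv_mul_cancel₀ (Nat.cast_ne_zero.mpr i.factorial_ne_zero), one_mul]
    let R : Mat k N := E.map (Polynomial.eval ((n : k)⁻¹))
    have hpow : R ^ n = (u : Mat k N) := by
      have h1 : E ^ n = E.map (fun q => q.comp (Polynomial.C (n : k) * Polynomial.X)) := by
        refine Matrix.ext fun a b => ?_
        refine sub_eq_zero.mp (Polynomial.eq_zero_of_infinite_isRoot _
          (Set.Infinite.mono ?_ (Set.infinite_range_of_injective (f := fun m : ℕ => (m : k)) Nat.cast_injective)))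
        rintro _ ⟨m, rfl⟩
        show Polynomial.eval (m : k) _ = 0
        have e1 : ((E ^ n) a b).eval (m : k) = ((u ^ m : GLk k N) ^ n : GLk k N).val a b := by
          rw [Units.val_pow_eq_pow_val, ← hE m, ← Polynomial.coe_evalRingHom,
            show (E.map (Polynomial.evalRingHom (m : k))) ^ n = (E ^ n).map (Polynomial.evalRingHom (m : k)) from
              ((Polynomial.evalRingHom (m : k)).mapMatrix.map_pow E n).symm]
          rfl
        have e2 : (E a b).eval (((m * n : ℕ) : k)) = ((u ^ m : GLk k N) ^ n : GLk k N).val a b := by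
          rw [← pow_mul, ← hE (m * n)]; rfl
        rw [Polynomial.eval_sub, e1, Matrix.map_apply, Polynomial.eval_comp, Polynomial.eval_mul, Polynomial.eval_C,
          Polynomial.eval_X, ← Nat.cast_mul, mul_comm n m, e2, sub_self]
      have h2 := congrArg (fun M : Matrix (Fin N) (Fin N) (Polynomial k) => M.map (Polynomial.eval ((n : k)⁻¹))) h1
      simp only [Matrix.map_map] at h2
      refine Eq.trans ?_ (Eq.trans h2 ?_)
      · exact ((Polynomial.evalRingHom ((n : k)⁻¹)).mapMatrix.map_pow E n).symm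
      · ext a b
        simp only [Matrix.map_apply, Function.comp_apply, Polynomial.eval_comp, Polynomial.eval_mul, Polynomial.eval_C,
          Polynomial.eval_X, mul_inv_cancel₀ hn]
        simpa using congrFun (congrFun (hE 1) a) b
    have hn0 : n ≠ 0 := fun h => hn (by simp [h])
    let r : GLk k N := ((isUnit_pow_iff hn0).mp (hpow ▸ u.isUnit)).unit
    refine ⟨r, Units.ext ((Units.val_pow_eq_pow_val r n).trans hpow), fun K hK huK => hK r fun q hq => ?_⟩
    have hq0 : MvPolynomial.aeval (fun ij : Fin N × Fin N => E ij.1 ij.2) q = 0 := by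
      refine Polynomial.eq_zero_of_infinite_isRoot _
        (Set.Infinite.mono ?_ (Set.infinite_range_of_injective (f := fun m : ℕ => (m : k)) Nat.cast_injective))
      rintro _ ⟨m, rfl⟩
      show Polynomial.aeval (m : k) _ = 0
      rw [← AlgHom.comp_apply, MvPolynomial.comp_aeval]
      refine Eq.trans ?_ (mem_vIdeal.mp hq _ (K.pow_mem huK m))
      refine congrArg (fun f : _ →ₐ[k] k => f q) (congrArg MvPolynomial.aeval (funext fun ij => ?_))
      simpa [Matrix.map_apply] using congrFun (congrFun (hE m) ij.1) ij.2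
    have h3 := congrArg (Polynomial.aeval ((n : k)⁻¹)) hq0
    rw [map_zero, ← AlgHom.comp_apply, MvPolynomial.comp_aeval] at h3
    refine Eq.trans ?_ h3
    refine congrArg (fun f : _ →ₐ[k] k => f q) (congrArg MvPolynomial.aeval (funext fun ij => ?_))
    simp [r, R]

theorem Flag.nilpotent {u : GLk k N} (hu : u ∈ F.U 1) : ((u : Mat k N) - 1) ^ F.len = 0 := by
  have h : ∀ m : ℕ, ((u : Mat k N) - 1) ^ m ∈ F.E m := by
    intro m
    induction m with
    | zero => intro i x hx; simpa using hx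
    | succ m ih => rw [pow_succ]; exact F.E_mul ih hu.2
  exact F.E_len le_rfl (h _)

theorem Flag.exists_root (hH : IsZClosed (H : Set (GLk k N))) {d : ℕ} (hd : 1 ≤ d) {u : GLk k N} (hu : u ∈ F.U d)
    {n : ℕ} (hn : (n : k) ≠ 0) :
    ∃ r ∈ F.U d, r ^ n = u ∧ ∀ x : Mat k N, Commute (u : Mat k N) x → Commute (r : Mat k N) x := by
  obtain ⟨r, hr, hK⟩ := H20Conj.exists_root (F.nilpotent (F.U_mono hd hu)) hn
  exact ⟨r, hK _ (F.isZClosed_U hH d) hu, hr, fun x hx =>
    hK (centSub fun _ : Unit => x) (isZClosed_commute _) (fun _ => hx) ()⟩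

/-- The graded component of an element of `U d`. -/
def Flag.gr (d : ℕ) (g : GLk k N) : Mat k N ⧸ F.E (d + 1) := (F.E (d + 1)).mkQ ((g : Mat k N) - 1)

theorem Flag.gr_mul {d : ℕ} (hd : 1 ≤ d) {g h : GLk k N} (hg : g ∈ F.U d) (hh : h ∈ F.U d) :
    F.gr d (g * h) = F.gr d g + F.gr d h := by
  unfold Flag.gr
  rw [← map_add, ← sub_eq_zero, ← map_sub, Submodule.mkQ_apply, Submodule.Quotient.mk_eq_zero,
    show ((g * h : GLk k N) : Mat k N) - 1 - (((g : Mat k N) - 1) + ((h : Mat k N) - 1)) =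
      ((g : Mat k N) - 1) * ((h : Mat k N) - 1) by rw [Units.val_mul, mul_sub, sub_mul, sub_mul]; simp; abel]
  exact F.E_mono (by omega) (F.E_mul hg.2 hh.2)

theorem Flag.gr_eq_zero {d : ℕ} {g : GLk k N} (hg : g ∈ F.U d) (h : F.gr d g = 0) : g ∈ F.U (d + 1) :=
  ⟨hg.1, (Submodule.Quotient.mk_eq_zero _).mp h⟩

theorem Flag.gr_inv {d : ℕ} (hd : 1 ≤ d) {g : GLk k N} (hg : g ∈ F.U d) : F.gr d g⁻¹ = -F.gr d g := by
  rw [eq_neg_iff_add_eq_zero, ← F.gr_mul hd ((F.U d).inv_mem hg) hg, inv_mul_cancel]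
  simp [Flag.gr]

theorem Flag.gr_pow {d : ℕ} (hd : 1 ≤ d) {g : GLk k N} (hg : g ∈ F.U d) (n : ℕ) :
    F.gr d (g ^ n) = (n : k) • F.gr d g := by
  induction n with
  | zero => simp [Flag.gr]
  | succ n ih => rw [pow_succ, F.gr_mul hd (pow_mem hg n) hg, ih, Nat.cast_succ, add_smul, one_smul]

/-- Conjugation on the graded pieces. -/
def Flag.grConj (d : ℕ) {g : GLk k N} (hg : g ∈ H) : Mat k N ⧸ F.E (d + 1) →ₗ[k] Mat k N ⧸ F.E (d + 1) :=
  (F.E (d + 1)).mapQ (F.E (d + 1))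
    ((LinearMap.mulRight k ((g⁻¹ : GLk k N) : Mat k N)).comp (LinearMap.mulLeft k (g : Mat k N)))
    fun _ hM => F.E_conj hg hM

theorem Flag.gr_conj {d : ℕ} {g h : GLk k N} (hg : g ∈ H) :
    F.gr d (g * h * g⁻¹) = F.grConj d hg (F.gr d h) := by
  unfold Flag.gr Flag.grConj
  rw [Submodule.mkQ_apply, Submodule.mkQ_apply, Submodule.mapQ_apply]
  congr 1
  simp [mul_sub, sub_mul]

theorem Flag.exists_prod {d : ℕ} (hd : 1 ≤ d) {ι : Type*} (s : Finset ι) (c : ι → GLk k N) (hc : ∀ i, c i ∈ F.U d) :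
    ∃ u ∈ F.U d, F.gr d u = ∑ i ∈ s, F.gr d (c i) := by
  classical
  induction s using Finset.induction with
  | empty => exact ⟨1, (F.U d).one_mem, by simp [Flag.gr]⟩
  | insert i s hi ih =>
    obtain ⟨u, hu, hgr⟩ := ih
    exact ⟨c i * u, (F.U d).mul_mem (hc i) hu, by rw [F.gr_mul hd (hc i) hu, hgr, Finset.sum_insert hi]⟩

/-- **Vanishing of `H¹`** of a finite group of invertible order in the unipotent part. -/
theorem Flag.exists_coboundary (hH : IsZClosed (H : Set (GLk k N))) {A : Type*} [Group A] [Fintype A]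
    (hA : (Fintype.card A : k) ≠ 0) (ρ : A →* GLk k N) (hρ : ∀ a, ρ a ∈ H) (m : ℕ) :
    ∀ d, 1 ≤ d → F.len ≤ d + m → ∀ c : A → GLk k N, (∀ a, c a ∈ F.U d) →
      (∀ a b, c (a * b) = c a * (ρ a * c b * (ρ a)⁻¹)) → ∃ u ∈ F.U d, ∀ a, c a = u⁻¹ * ρ a * u * (ρ a)⁻¹ := by
  induction m with
  | zero =>
    intro d _ hlen c hc _
    refine ⟨1, (F.U d).one_mem, fun a => ?_⟩
    rw [inv_one, one_mul, mul_one, mul_inv_cancel]
    exact Units.ext (sub_eq_zero.mp (F.E_len (by omega) (hc a).2))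
  | succ m ih =>
    intro d hd hlen c hc hcoc
    obtain ⟨P, hP, hPgr⟩ := F.exists_prod hd Finset.univ c hc
    obtain ⟨R, hR, hRn, -⟩ := F.exists_root hH hd hP hA
    let u₀ := R⁻¹
    have hu₀ : u₀ ∈ F.U d := (F.U d).inv_mem hR
    let c' : A → GLk k N := fun a => u₀ * c a * (ρ a * u₀⁻¹ * (ρ a)⁻¹)
    have hconj : ∀ a, ρ a * u₀⁻¹ * (ρ a)⁻¹ ∈ F.U d := fun a => F.U_conj (hρ a) ((F.U d).inv_mem hu₀)
    have hc'd : ∀ a, c' a ∈ F.U d := fun a => (F.U d).mul_mem ((F.U d).mul_mem hu₀ (hc a)) (hconj a)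
    have hc' : ∀ a, c' a ∈ F.U (d + 1) := fun a => by
      refine F.gr_eq_zero (hc'd a) ((smul_eq_zero.mp ?_).resolve_left hA)
      have hsum : (Fintype.card A : k) • F.gr d (c a) =
          F.gr d P - F.grConj d (hρ a) (F.gr d P) := by
        rw [eq_sub_iff_add_eq, hPgr, map_sum, Nat.cast_smul_eq_nsmul, ← Finset.card_univ, ← Finset.sum_const,
          ← Finset.sum_add_distrib]
        refine Eq.trans (Finset.sum_congr rfl fun b _ => ?_) (Equiv.sum_comp (Equiv.mulLeft a) fun b => F.gr d (c b))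
        rw [← F.gr_conj (hρ a), ← F.gr_mul hd (hc a) (F.U_conj (hρ a) (hc b)), ← hcoc]
        rfl
      have hRgr : (Fintype.card A : k) • F.gr d R = F.gr d P := by rw [← F.gr_pow hd hR, hRn]
      show (Fintype.card A : k) • F.gr d (u₀ * c a * (ρ a * u₀⁻¹ * (ρ a)⁻¹)) = 0
      rw [F.gr_mul hd ((F.U d).mul_mem hu₀ (hc a)) (hconj a), F.gr_mul hd hu₀ (hc a), F.gr_conj (hρ a), inv_inv,
        F.gr_inv hd hR, smul_add, smul_add, smul_neg, hsum, hRgr, ← map_smul, hRgr]
      abel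
    obtain ⟨u₁, hu₁, hu₁c⟩ := ih (d + 1) (by omega) (by omega) c' hc' fun a b => by
      simp only [c', hcoc, map_mul]
      group
    refine ⟨u₁ * u₀, (F.U d).mul_mem (F.U_mono (Nat.le_succ d) hu₁) hu₀, fun a => ?_⟩
    calc c a = u₀⁻¹ * c' a * (ρ a * u₀ * (ρ a)⁻¹) := by simp only [c']; group
      _ = _ := by rw [hu₁c]; group

end H20Conj
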